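import Cfsg.Agent.H80.A8Type.Engine
import Cfsg.Agent.S0111

/-! A group with Sylow `2`-subgroup `T⟨e⟩` of order `32`: it factors through `R⟨t⟩`. -/

set_option autoImplicit false

namespace Cfsg.Agent.H80.A8Type

open Subgroup
open Cfsg.Agent.H74 (oddCoreIn oddCoreIn_le le_normalizer_oddCoreIn odd_card_oddCoreIn le_oddCoreIn)

universe u

namespace QuotCent

variable {G : Type u} [Group G] [Finite G]

theorem four_elems {P : Subgroup G} (h4 : Nat.card P = 4) {a b c : G} (ha : a ∈ P) (hb : b ∈ P)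
    (hc : c ∈ P) (ha1 : a ≠ 1) (hb1 : b ≠ 1) (hc1 : c ≠ 1) (hab : a ≠ b) (hac : a ≠ c) (hbc : b ≠ c)
    {y : G} (hy : y ∈ P) : y = 1 ∨ y = a ∨ y = b ∨ y = c := by
  classical
  let f : Fin 4 → P := ![1, ⟨a, ha⟩, ⟨b, hb⟩, ⟨c, hc⟩]
  have hf : Function.Injective f := by
    intro i j h
    have h' := congrArg Subtype.val h
    fin_cases i <;> fin_cases j <;>
      simp [f, ha1, hb1, hc1, hab, hac, hbc, ha1.symm, hb1.symm, hc1.symm, hab.symm, hac.symm,
        hbc.symm] at h' ⊢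
  haveI := Fintype.ofFinite P
  have hcard : Fintype.card (Fin 4) = Fintype.card P := by
    rw [← Nat.card_eq_fintype_card, ← Nat.card_eq_fintype_card, h4, Nat.card_fin]
  obtain ⟨i, hi⟩ := ((Fintype.bijective_iff_injective_and_card f).mpr ⟨hf, hcard⟩).2 ⟨y, hy⟩
  have hi' := congrArg Subtype.val hi
  fin_cases i <;> simp [f] at hi'
  · exact Or.inl hi'.symm
  · exact Or.inr (Or.inl hi'.symm)
  · exact Or.inr (Or.inr (Or.inl hi'.symm))
  · exact Or.inr (Or.inr (Or.inr hi'.symm))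

/-- Burnside: an abelian Sylow subgroup central in its normaliser has a normal complement. -/
theorem factor_abelian {X T : Subgroup G} (hTX : T ≤ X) (h2 : IsPGroup 2 T)
    (hodd : ¬ 2 ∣ T.relIndex X)
    (hN : ∀ x ∈ X, x ∈ normalizer (T : Set G) → ∀ a ∈ T, x * a = a * x) : Factor X T := by
  haveI := Fact.mk Nat.prime_two
  let P : Sylow 2 X := (h2.comap_subtype (K := X)).toSylow hodd
  have hP : normalizer ((P : Subgroup X) : Set X) ≤ centralizer ((P : Subgroup X) : Set X) := by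
    intro x hx
    have hxT : (x : G) ∈ normalizer (T : Set G) := by
      apply mem_normalizer_fintype
      intro y hy
      exact (mem_normalizer_iff.mp hx ⟨y, hTX hy⟩).mp hy
    rw [mem_centralizer_iff]
    intro y hy
    exact Subtype.ext (hN x x.2 hxT y hy).symm
  set K := (MonoidHom.transferSylow P hP).ker
  have hK : K ≤ Cfsg.oddCore X := H51.le_pPrimeCore inferInstance
    (Nat.prime_two.coprime_iff_not_dvd.mpr (MonoidHom.not_dvd_card_ker_transferSylow P hP)).symm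
  intro c hc
  have hcK : (⟨c, hc⟩ : X) ∈ K ⊔ (P : Subgroup X) :=
    (MonoidHom.ker_transferSylow_isComplement' P hP).sup_eq_top ▸ mem_top _
  rw [← SetLike.mem_coe, Subgroup.normal_mul] at hcK
  obtain ⟨o, ho, s, hs, hos⟩ := hcK
  refine ⟨(o : G), ⟨o, hK ho, rfl⟩, ?_⟩
  have : (o : G) * (s : G) = c := congrArg Subtype.val hos
  rw [← this, inv_mul_cancel_left]
  exact hs

/-- `O(X)` is normalised by what normalises `X`. -/
theorem normalizer_le_normalizer_oddCoreIn (X : Subgroup G) :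
    normalizer (X : Set G) ≤ normalizer (oddCoreIn X : Set G) := by
  intro n hn
  apply mem_normalizer_fintype
  intro y hy
  have hX : X.map (MulAut.conj n).toMonoidHom = X := by
    refine le_antisymm ?_ fun z hz => ?_
    · rintro _ ⟨z, hz, rfl⟩; exact (mem_normalizer_iff.mp hn z).mp hz
    · refine ⟨n⁻¹ * z * n, ?_, by simp [mul_assoc]⟩
      exact (mem_normalizer_iff''.mp hn z).mp hz
  have : (oddCoreIn X).map (MulAut.conj n).toMonoidHom ≤ oddCoreIn X := by
    refine le_oddCoreIn ((map_mono (oddCoreIn_le X)).trans hX.le) ?_ ?_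
    · have := H93.map_conj_le_normalizer (g := n) (le_normalizer_oddCoreIn X)
      rwa [hX] at this
    · rw [odd_card_map_conj]; exact odd_card_oddCoreIn X
  exact this ⟨y, hy, rfl⟩

theorem oddCoreIn_top_le : oddCoreIn (⊤ : Subgroup G) ≤ Cfsg.oddCore G :=
  H93.le_oddCore (normalizer_eq_top_iff.mp (eq_top_iff.mpr (le_normalizer_oddCoreIn ⊤)))
    (odd_card_oddCoreIn _)

theorem le_oddCoreIn_top : Cfsg.oddCore G ≤ oddCoreIn (⊤ : Subgroup G) := by
  haveI := H19.pPrimeCore_normal 2 G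
  exact le_oddCoreIn le_top (by rw [normalizer_eq_top_iff.mpr inferInstance]) H93.odd_card_oddCore

end QuotCent

open QuotCent in
theorem quotient_factor {Q : Type u} [Group Q] [Finite Q] (R : Sylow 2 Q) (T P : Subgroup Q) (e t : Q)
    (hTR : T ≤ (R : Subgroup Q)) (hTi : T.relIndex (R : Subgroup Q) = 2)
    (hT : Cfsg.IsElementaryAbelian 2 T) (hT16 : Nat.card T = 16) (hPT : P ≤ T) (hP4 : Nat.card P = 4)
    (he : e ∈ (R : Subgroup Q)) (he2 : orderOf e = 2) (heT : e ∉ T)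
    (heconj : ∀ g : Q, g * e * g⁻¹ ∉ T)
    (hcomm : ∀ x ∈ T, e * x * e⁻¹ * x⁻¹ ∈ P)
    (hfix : ∀ x ∈ T, e * x = x * e → x ∈ P)
    (hPZ : ∀ p ∈ P, ∀ s ∈ (R : Subgroup Q), s * p = p * s)
    (hPclosed : ∀ g : Q, ∀ p ∈ P, g * p * g⁻¹ ∈ T → g * p * g⁻¹ ∈ P)
    (htT : t ∈ Subgroup.normalizer (T : Set Q))
    (hcube : ∀ x ∈ T, x * (t * x * t⁻¹) * (t * t * x * (t * t)⁻¹) ∈ P)
    (htP : ∀ p ∈ P, t * p = p * t → p = 1) :
    ∀ q : Q, ∃ o ∈ Cfsg.oddCore Q, o⁻¹ * q ∈ (R : Subgroup Q) ⊔ Subgroup.zpowers t := by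
  classical
  haveI := Fact.mk Nat.prime_two
  obtain ⟨hTcom, hTexp⟩ := hT
  have hTc : ∀ a ∈ T, ∀ b ∈ T, a * b = b * a := fun a ha b hb => setLike_mul_comm ha hb
  have hT2 : ∀ a ∈ T, a * a = 1 := fun a ha => by simpa [pow_two] using hTexp a ha
  -- cardinalities
  have hR32 : Nat.card (R : Subgroup Q) = 32 := by
    have h := (T.subgroupOf (R : Subgroup Q)).card_mul_index
    rw [Nat.card_congr (subgroupOfEquivOfLe hTR).toEquiv, hT16] at h
    rw [← h, show (T.subgroupOf (R : Subgroup Q)).index = 2 from hTi]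
  have h64 : ¬ 64 ∣ Nat.card Q := by
    intro h
    have h' : 6 ≤ (Nat.card Q).factorization 2 :=
      (Nat.Prime.pow_dvd_iff_le_factorization Nat.prime_two Nat.card_pos.ne').1 (by simpa using h)
    have h5 := R.card_eq_multiplicity
    rw [hR32] at h5
    have : 2 ^ 6 ≤ 2 ^ (Nat.card Q).factorization 2 := Nat.pow_le_pow_right (by norm_num) h'
    omega
  -- `R` normalises `T`
  have hRN : (R : Subgroup Q) ≤ normalizer (T : Set Q) :=
    (normal_subgroupOf_iff_le_normalizer hTR).mp (normal_of_index_eq_two hTi)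
  set N := normalizer (T : Set Q) with hNdef
  have hNT : ∀ n ∈ N, ∀ x ∈ T, n * x * n⁻¹ ∈ T := fun n hn x hx => (mem_normalizer_iff.mp hn x).mp hx
  have hNT' : ∀ n ∈ N, ∀ x ∈ T, n⁻¹ * x * n ∈ T := fun n hn x hx =>
    (mem_normalizer_iff''.mp hn x).mp hx
  have hNP : ∀ n ∈ N, ∀ p ∈ P, n * p * n⁻¹ ∈ P := fun n hn p hp =>
    hPclosed n p hp (hNT n hn p (hPT hp))
  -- `δ`
  have he1 : e * e = 1 := by rw [← pow_two, ← he2, pow_orderOf_eq_one]
  have hei : e⁻¹ = e := inv_eq_of_mul_eq_one_right he1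
  set δ : Q → Q := fun x => e * x * e⁻¹ * x⁻¹ with hδ
  have hδmul : ∀ x ∈ T, ∀ y ∈ T, δ (x * y) = δ x * δ y := by
    intro x hx y hy
    have h1 : δ y * x⁻¹ = x⁻¹ * δ y := hTc _ (hPT (hcomm y hy)) _ (inv_mem hx)
    calc δ (x * y) = e * x * e⁻¹ * (δ y * x⁻¹) := by simp only [hδ]; group
      _ = δ x * δ y := by rw [h1]; simp only [hδ]; group
  have hδone : ∀ x ∈ T, δ x = 1 → x ∈ P := by
    intro x hx h
    refine hfix x hx ?_
    simp only [hδ, mul_inv_eq_one, mul_inv_eq_iff_eq_mul, one_mul] at h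
    exact h
  -- `K`: the elements of `N` centralising `P`
  set K := N ⊓ centralizer (P : Set Q) with hK
  have hmemK : ∀ {n : Q}, n ∈ N → (∀ p ∈ P, n * p * n⁻¹ = p) → n ∈ K := by
    intro n hn h
    refine ⟨hn, mem_centralizer_iff.mpr fun p hp => ?_⟩
    exact (mul_inv_eq_iff_eq_mul.mp (h p hp)).symm
  have hKfix : ∀ {n : Q}, n ∈ K → ∀ p ∈ P, n * p * n⁻¹ = p := by
    intro n hn p hp
    rw [mul_inv_eq_iff_eq_mul]
    exact (mem_centralizer_iff.mp hn.2 p hp).symm
  have hKn : ∀ n ∈ N, ∀ k ∈ K, n * k * n⁻¹ ∈ K := by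
    intro n hn k hk
    refine hmemK (mul_mem (mul_mem hn hk.1) (inv_mem hn)) fun p hp => ?_
    have h1 := hKfix hk (n⁻¹ * p * n) (by simpa using hNP n⁻¹ (inv_mem hn) p hp)
    calc n * k * n⁻¹ * p * (n * k * n⁻¹)⁻¹ = n * (k * (n⁻¹ * p * n) * k⁻¹) * n⁻¹ := by group
      _ = p := by rw [h1]; group
  have hRK : (R : Subgroup Q) ≤ K := fun r hr => ⟨hRN hr, mem_centralizer_iff.mpr fun p hp =>
    (hPZ p hp r hr).symm⟩
  haveI hKnor : (K.subgroupOf N).Normal := ⟨fun k hk n => hKn n n.2 k hk⟩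
  have hKodd : ¬ 2 ∣ K.relIndex N := by
    intro h
    have h1 : (R : Subgroup Q).relIndex N ∣ (R : Subgroup Q).index :=
      Dvd.intro _ (relIndex_mul_index hRN)
    have h2 : K.relIndex N ∣ (R : Subgroup Q).relIndex N := relIndex_dvd_of_le_left N hRK
    exact R.not_dvd_index (h.trans (h2.trans h1))
  have hsq : ∀ n ∈ N, n * n ∈ K → n ∈ K := by
    intro n hn h
    have h1 : n ^ K.relIndex N ∈ K := pow_index_mem (K.subgroupOf N) ⟨n, hn⟩
    obtain ⟨j, hj⟩ : Odd (K.relIndex N) := by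
      rwa [← Nat.not_even_iff_odd, even_iff_two_dvd]
    rw [hj, pow_succ, pow_mul, pow_two] at h1
    exact (Subgroup.mul_mem_cancel_left K (pow_mem h j)).mp h1
  -- an element of `N` fixing an involution of `P` lies in `K`
  have hfixP : ∀ n ∈ N, ∀ p ∈ P, p ≠ 1 → n * p * n⁻¹ = p → n ∈ K := by
    intro n hn p hp hp1 hnp
    refine hsq n hn (hmemK (mul_mem hn hn) fun b hb => ?_)
    have ee : n * n * b * (n * n)⁻¹ = n * (n * b * n⁻¹) * n⁻¹ := by group
    rw [ee]
    by_cases hb1 : b = 1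
    · simp [hb1]
    by_cases hbp : b = p
    · rw [hbp, hnp, hnp]
    have hpb : p * b ≠ 1 := by
      intro h
      apply hbp
      have := hT2 p (hPT hp)
      exact mul_left_cancel (h.trans this.symm)
    rcases four_elems hP4 hp hb (mul_mem hp hb) hp1 hb1 hpb (Ne.symm hbp)
      (fun h => hb1 (by simpa using h.symm)) (fun h => hp1 (by simpa using h.symm))
      (hNP n hn b hb) with h | h | h | h
    · exact absurd (conj_eq_one_iff.mp h) hb1
    · exact absurd (mul_left_cancel (mul_right_cancel (h.trans hnp.symm))) hbp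
    · rw [h, h]
    · rw [h, show n * (p * b) * n⁻¹ = (n * p * n⁻¹) * (n * b * n⁻¹) by group, hnp, h,
        ← mul_assoc, hT2 p (hPT hp), one_mul]
  -- the orbit of `t`
  obtain ⟨p0, hp0, hp01⟩ := P.bot_or_exists_ne_one.resolve_left fun h => by
    rw [h, Subgroup.card_bot] at hP4; omega
  set p1 := t * p0 * t⁻¹ with hp1def
  set p2 := t * t * p0 * (t * t)⁻¹ with hp2def
  have hp1 : p1 ∈ P := hNP t htT p0 hp0
  have hp2 : p2 ∈ P := hNP _ (mul_mem htT htT) p0 hp0
  have htK : t ∉ K := fun h => hp01 (htP p0 hp0 (mem_centralizer_iff.mp h.2 p0 hp0).symm)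
  have h01 : p0 ≠ p1 := fun h => htK (hfixP t htT p0 hp0 hp01 h.symm)
  have h02 : p0 ≠ p2 := fun h => htK (hsq t htT (hfixP _ (mul_mem htT htT) p0 hp0 hp01 h.symm))
  have h12 : p1 ≠ p2 := by
    intro h
    apply h01
    have e2 : p2 = t * p1 * t⁻¹ := by rw [hp2def, hp1def]; group
    rw [e2, hp1def] at h
    exact mul_left_cancel (mul_right_cancel h)
  have hp11 : p1 ≠ 1 := fun h => hp01 (conj_eq_one_iff.mp h)
  have hp21 : p2 ≠ 1 := fun h => hp01 (conj_eq_one_iff.mp h)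
  have hP3 : ∀ y ∈ P, y = 1 ∨ y = p0 ∨ y = p1 ∨ y = p2 := fun y hy =>
    four_elems hP4 hp0 hp1 hp2 hp01 hp11 hp21 h01 h02 h12 hy
  have hnk : ∀ n ∈ N, ∃ k : ℕ, (t ^ k)⁻¹ * n ∈ K := by
    intro n hn
    have hcase : ∀ k : ℕ, n * p0 * n⁻¹ = t ^ k * p0 * (t ^ k)⁻¹ → (t ^ k)⁻¹ * n ∈ K := by
      intro k hk
      refine hfixP _ (mul_mem (inv_mem (pow_mem htT k)) hn) p0 hp0 hp01 ?_
      calc (t ^ k)⁻¹ * n * p0 * ((t ^ k)⁻¹ * n)⁻¹ = (t ^ k)⁻¹ * (n * p0 * n⁻¹) * t ^ k := by group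
        _ = p0 := by rw [hk]; group
    rcases hP3 _ (hNP n hn p0 hp0) with h | h | h | h
    · exact absurd (conj_eq_one_iff.mp h) hp01
    · exact ⟨0, hcase 0 (by simpa using h)⟩
    · exact ⟨1, hcase 1 (by simpa [hp1def] using h)⟩
    · exact ⟨2, hcase 2 (by simpa [hp2def, pow_two] using h)⟩
  -- the subgroup `M` of index two
  obtain ⟨M, hMn, hMi, heM⟩ := (Cfsg.Agent.S0111.result R T hTR hTi e he2 he heT).resolve_right
    fun ⟨g, hg⟩ => heconj g hg
  have hM3 : ∀ x : Q, x * (t * x * t⁻¹) * (t * t * x * (t * t)⁻¹) ∈ M → x ∈ M := by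
    intro x h
    by_contra hx
    have h1 : t * x * t⁻¹ ∉ M := fun h => hx (by simpa [mul_assoc] using hMn.conj_mem _ h t⁻¹)
    have h2 : t * t * x * (t * t)⁻¹ ∉ M := fun h => hx (by
      simpa [mul_assoc] using hMn.conj_mem _ h (t * t)⁻¹)
    rw [mul_mem_iff_of_index_two hMi, mul_mem_iff_of_index_two hMi] at h
    exact h2 (h.mp (iff_of_false hx h1))
  have hPM : P ≤ M := by
    have hprod : p0 * p1 * p2 = 1 := by
      have h3 : p0 * p1 = p2 := by
        rcases hP3 _ (mul_mem hp0 hp1) with h | h | h | h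
        · exact absurd (mul_left_cancel ((hT2 p0 (hPT hp0)).trans h.symm)) h01
        · exact absurd (by simpa using h) hp11
        · exact absurd (by simpa using h) hp01
        · exact h
      rw [h3, hT2 p2 (hPT hp2)]
    have hp0M : p0 ∈ M := hM3 p0 (by rw [← hp1def, ← hp2def, hprod]; exact one_mem _)
    intro y hy
    rcases hP3 y hy with rfl | rfl | rfl | rfl
    · exact one_mem _
    · exact hp0M
    · exact hMn.conj_mem _ hp0M t
    · exact hMn.conj_mem _ hp0M (t * t)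
  have hTM : T ≤ M := fun x hx => hM3 x (hPM (hcube x hx))
  -- `L`: trivial on `P` and on `T / P`
  let L : Subgroup Q :=
    { carrier := {n | n ∈ K ∧ ∀ x ∈ T, n * x * n⁻¹ * x⁻¹ ∈ P}
      one_mem' := ⟨one_mem _, fun x _ => by simp⟩
      mul_mem' := by
        rintro a b ⟨ha, ha'⟩ ⟨hb, hb'⟩
        refine ⟨mul_mem ha hb, fun x hx => ?_⟩
        have h1 := hKfix ha _ (hb' x hx)
        have e1 : a * b * x * (a * b)⁻¹ * x⁻¹ =
            (a * (b * x * b⁻¹ * x⁻¹) * a⁻¹) * (a * x * a⁻¹ * x⁻¹) := by group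
        rw [e1, h1]
        exact mul_mem (hb' x hx) (ha' x hx)
      inv_mem' := by
        rintro a ⟨ha, ha'⟩
        refine ⟨inv_mem ha, fun x hx => ?_⟩
        have h1 := inv_mem (ha' (a⁻¹ * x * a) (hNT' a ha.1 x hx))
        convert h1 using 1
        group }
  have heL : e ∈ L := ⟨hRK he, hcomm⟩
  set C := centralizer (T : Set Q) with hCdef
  have hCN : C ≤ N := centralizer_le_normalizer _
  have hmemC : ∀ {n : Q}, (∀ x ∈ T, n * x * n⁻¹ = x) → n ∈ C := fun {n} h =>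
    mem_centralizer_iff.mpr fun x hx => (mul_inv_eq_iff_eq_mul.mp (h x hx)).symm
  have hCfix : ∀ {n : Q}, n ∈ C → ∀ x ∈ T, n * x * n⁻¹ = x := fun {n} hn x hx =>
    mul_inv_eq_iff_eq_mul.mpr (mem_centralizer_iff.mp hn x hx).symm
  have hTC : T ≤ C := fun a ha => mem_centralizer_iff.mpr fun x hx => hTc x hx a ha
  have hCL : C ≤ L := fun c hc => ⟨hmemK (hCN hc) fun p hp => hCfix hc p (hPT hp),
    fun x hx => by rw [hCfix hc x hx, mul_inv_cancel]; exact one_mem _⟩
  have heC : e ∉ C := fun h => by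
    have hle : T ≤ P := fun x hx => hfix x hx (mem_centralizer_iff.mp h x hx).symm
    have := Subgroup.card_le_of_le hle
    omega
  have hCnor : ∀ n ∈ N, ∀ c ∈ C, n * c * n⁻¹ ∈ C := fun n hn c hc => hmemC fun x hx => by
    have := hCfix hc _ (hNT' n hn x hx)
    calc n * c * n⁻¹ * x * (n * c * n⁻¹)⁻¹ = n * (c * (n⁻¹ * x * n) * c⁻¹) * n⁻¹ := by group
      _ = x := by rw [this]; group
  haveI hCLn : (C.subgroupOf L).Normal := ⟨fun c hc n => hCnor n n.2.1.1 c hc⟩
  have hLsq : ∀ a ∈ L, a * a ∈ C := by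
    rintro a ⟨ha, ha'⟩
    refine hmemC fun x hx => ?_
    set d := a * x * a⁻¹ * x⁻¹ with hd
    have h1 := hKfix ha d (ha' x hx)
    calc a * a * x * (a * a)⁻¹ = (a * d * a⁻¹) * (a * x * a⁻¹) := by simp only [hd]; group
      _ = d * d * x := by rw [h1]; simp only [hd]; group
      _ = x := by rw [hT2 d (hPT (ha' x hx)), one_mul]
  have hT16C : 16 ∣ Nat.card C := hT16 ▸ card_dvd_of_le hTC
  have hCLi : (C.subgroupOf L).index = 2 := by
    have hp : IsPGroup 2 (L ⧸ C.subgroupOf L) := by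
      intro x
      obtain ⟨a, rfl⟩ := QuotientGroup.mk'_surjective _ x
      refine ⟨1, ?_⟩
      rw [pow_one, pow_two, ← map_mul]
      exact (QuotientGroup.eq_one_iff _).mpr (hLsq a a.2)
    obtain ⟨k, hk⟩ := IsPGroup.iff_card.mp hp
    rw [← index_eq_card] at hk
    have hcard := (C.subgroupOf L).card_mul_index
    rw [Nat.card_congr (subgroupOfEquivOfLe hCL).toEquiv, hk] at hcard
    rcases k with _ | _ | k
    · rw [pow_zero, index_eq_one, subgroupOf_eq_top] at hk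
      exact absurd (hk heL) heC
    · simpa using hk
    · exfalso
      apply h64
      refine dvd_trans ?_ L.card_subgroup_dvd_card
      rw [← hcard, show (64 : ℕ) = 16 * 4 from rfl]
      exact mul_dvd_mul hT16C (by rw [pow_succ, pow_succ, mul_assoc]; exact dvd_mul_left _ _)
  have hC32 : ¬ 32 ∣ Nat.card C := by
    intro h
    apply h64
    refine dvd_trans ?_ L.card_subgroup_dvd_card
    have hcard := (C.subgroupOf L).card_mul_index
    rw [Nat.card_congr (subgroupOfEquivOfLe hCL).toEquiv, hCLi] at hcard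
    rw [← hcard]
    exact mul_dvd_mul_right h 2
  have hLcase : ∀ r ∈ L, r ∈ C ∨ r * e ∈ C := by
    intro r hr
    by_cases hrC : r ∈ C
    · exact Or.inl hrC
    · exact Or.inr ((mul_mem_iff_of_index_two hCLi (a := ⟨r, hr⟩) (b := ⟨e, heL⟩)).mpr
        (iff_of_false hrC heC))
  have hCM : C ≤ M := by
    intro c hc
    by_contra hcM
    have h1 : M.relIndex C ≤ 2 := by
      have h : M.relIndex C ∣ M.index := relIndex_dvd_index_of_normal M C
      rw [hMi] at h
      exact Nat.le_of_dvd (by norm_num) h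
    have h2 : M.relIndex C ≠ 1 := fun h => hcM (relIndex_eq_one.mp h hc)
    have h3 : M.relIndex C ≠ 0 := index_ne_zero_of_finite
    have h4 := (M.subgroupOf C).card_mul_index
    rw [show (M.subgroupOf C).index = 2 by change M.relIndex C = 2; omega] at h4
    apply hC32
    rw [← h4, show (32 : ℕ) = 16 * 2 from rfl]
    refine mul_dvd_mul_right ?_ 2
    rw [← hT16, ← Nat.card_congr (subgroupOfEquivOfLe hTC).toEquiv]
    exact card_dvd_of_le (comap_mono hTM)
  -- every element of `N` commutes with `δ`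
  have hequi : ∀ n ∈ N, ∀ x ∈ T, δ (n * x * n⁻¹) = n * δ x * n⁻¹ := by
    intro n hn x hx
    have he'L : n * e * n⁻¹ ∈ L := by
      refine ⟨hKn n hn e (hRK he), fun y hy => ?_⟩
      have := hNP n hn _ (hcomm _ (hNT' n hn y hy))
      convert this using 1
      group
    have he'C : n * e * n⁻¹ ∉ C := fun h => heC (by
      simpa [mul_assoc] using hCnor n⁻¹ (inv_mem hn) _ h)
    have h := hCfix ((hLcase _ he'L).resolve_left he'C) _ (hNT (e) (hRN he) _ (hNT n hn x hx))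
    have e2 : ∀ y : Q, e * (e * y * e⁻¹) * e⁻¹ = y := fun y => by
      calc e * (e * y * e⁻¹) * e⁻¹ = (e * e) * y * (e * e)⁻¹ := by group
        _ = y := by rw [he1]; group
    set y := n * x * n⁻¹ with hy
    have h' : n * e * n⁻¹ * y * (n * e * n⁻¹)⁻¹ = e * y * e⁻¹ := by
      calc n * e * n⁻¹ * y * (n * e * n⁻¹)⁻¹
          = n * e * n⁻¹ * (e * (e * y * e⁻¹) * e⁻¹) * (n * e * n⁻¹)⁻¹ := by rw [e2]
        _ = n * e * n⁻¹ * e * (e * y * e⁻¹) * (n * e * n⁻¹ * e)⁻¹ := by group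
        _ = e * y * e⁻¹ := h
    calc δ y = e * y * e⁻¹ * y⁻¹ := rfl
      _ = n * δ x * n⁻¹ := by rw [← h', hy]; simp only [hδ]; group
  -- an element of `N` fixing an involution of `T`
  have hfixT : ∀ n ∈ N, ∀ x ∈ T, x ≠ 1 → n * x * n⁻¹ = x → n ∈ C ∨ n * e ∈ C := by
    intro n hn x hx hx1 hnx
    have hnK : n ∈ K := by
      by_cases hxP : x ∈ P
      · exact hfixP n hn x hxP hx1 hnx
      · refine hfixP n hn (δ x) (hcomm x hx) (fun h => hxP (hδone x hx h)) ?_
        rw [← hequi n hn x hx, hnx]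
    refine hLcase n ⟨hnK, fun y hy => hδone _ (mul_mem (hNT n hn y hy) (inv_mem hy)) ?_⟩
    have hyi : y⁻¹ = y := inv_eq_of_mul_eq_one_right (hT2 y hy)
    rw [hδmul _ (hNT n hn y hy) _ (inv_mem hy), hyi, hequi n hn y hy, hKfix hnK _ (hcomm y hy)]
    exact hT2 _ (hPT (hcomm y hy))
  -- inside `M`
  haveI := hMn
  set TM := T.subgroupOf M with hTMdef
  have hTM2 : IsPGroup 2 TM := (R.isPGroup'.to_le hTR).comap_subtype
  have hTMi : ¬ 2 ∣ TM.index := by
    rintro ⟨m, hm⟩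
    apply h64
    have h1 := TM.card_mul_index
    rw [hTMdef, Nat.card_congr (subgroupOfEquivOfLe hTM).toEquiv, hT16, hm] at h1
    have h2 := M.card_mul_index
    rw [hMi, ← h1] at h2
    exact ⟨m, by omega⟩
  let S : Sylow 2 M := hTM2.toSylow hTMi
  have hS : (S : Subgroup M) = TM := rfl
  have hTMea : Cfsg.IsElementaryAbelian 2 TM :=
    ⟨⟨⟨fun a b => Subtype.ext (Subtype.ext (hTc _ a.2 _ b.2))⟩⟩,
      fun a ha => Subtype.ext (hTexp (a : Q) ha)⟩
  set NM := normalizer (TM : Set M) with hNMdef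
  have hNMN : ∀ n ∈ NM, (n : Q) ∈ N := fun n hn => by
    apply mem_normalizer_fintype
    intro y hy
    exact (mem_normalizer_iff.mp hn ⟨y, hTM hy⟩).mp hy
  have hrel : ∀ X : Subgroup M, TM ≤ X → ¬ 2 ∣ TM.relIndex X := fun X hX h =>
    hTMi (h.trans (Dvd.intro _ (relIndex_mul_index hX)))
  have hcent : ∀ a ∈ TM, a ≠ 1 → Factor (centralizer ({a} : Set M)) TM := by
    intro a ha ha1
    have hTa : TM ≤ centralizer ({a} : Set M) := fun y hy =>
      mem_centralizer_singleton_iff.mpr (Subtype.ext (hTc _ hy _ ha))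
    refine factor_abelian hTa hTM2 (hrel _ hTa) fun x hxa hxN y hy => Subtype.ext ?_
    have hxa' : (x : Q) * a * (x : Q)⁻¹ = a :=
      mul_inv_eq_iff_eq_mul.mpr (congrArg Subtype.val (mem_centralizer_singleton_iff.mp hxa))
    rcases hfixT x (hNMN x hxN) a ha (fun h => ha1 (Subtype.ext h)) hxa' with h | h
    · exact (mem_centralizer_iff.mp h y hy).symm
    · exact absurd ((Subgroup.mul_mem_cancel_left M x.2).mp (hCM h)) heM
  have hCA : ∀ x ∈ NM, x ∈ centralizer (TM : Set M) → x ∈ TM ⊔ oddCoreIn NM := by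
    intro x _ hx
    set X := centralizer (TM : Set M) with hX
    have hTX : TM ≤ X := fun a ha => mem_centralizer_iff.mpr fun y hy =>
      Subtype.ext (hTc _ hy _ ha)
    have hf : Factor X TM := factor_abelian hTX hTM2 (hrel _ hTX) fun z hz _ a ha =>
      (mem_centralizer_iff.mp hz a ha).symm
    obtain ⟨o, ho, hs⟩ := hf x hx
    have hXN : NM ≤ normalizer (X : Set M) := by
      intro n hn
      apply mem_normalizer_fintype
      intro c hc
      rw [SetLike.mem_coe, mem_centralizer_iff]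
      intro y hy
      have := mem_centralizer_iff.mp hc _ ((mem_normalizer_iff''.mp hn y).mp hy)
      calc y * (n * c * n⁻¹) = n * ((n⁻¹ * y * n) * c) * n⁻¹ := by group
        _ = n * (c * (n⁻¹ * y * n)) * n⁻¹ := by rw [this]
        _ = n * c * n⁻¹ * y := by group
    have hoN : o ∈ oddCoreIn NM := le_oddCoreIn
      ((oddCoreIn_le X).trans (centralizer_le_normalizer _))
      (hXN.trans (normalizer_le_normalizer_oddCoreIn X)) (odd_card_oddCoreIn X) ho
    rw [show x = o * (o⁻¹ * x) by group]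
    exact mul_mem (mem_sup_right hoN) (mem_sup_left hs)
  obtain ⟨q0, hq0T, hq0P⟩ : ∃ q ∈ T, q ∉ P := by
    by_contra hh
    push Not at hh
    have := Subgroup.card_le_of_le (show T ≤ P from hh)
    omega
  have hord : ∀ x ∈ T, ∀ hx : x ∈ M, x ≠ 1 → orderOf (⟨x, hx⟩ : M) = 2 := fun x hxT hx hx1 => by
    rw [← Subgroup.orderOf_coe]
    exact orderOf_eq_prime (hTexp x hxT) hx1
  have hpq : ¬ IsConj (⟨p0, hPM hp0⟩ : M) ⟨q0, hTM hq0T⟩ := by
    intro h
    obtain ⟨g, hg⟩ := isConj_iff.mp h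
    have hg' : (g : Q) * p0 * (g : Q)⁻¹ = q0 := congrArg Subtype.val hg
    exact hq0P (hg' ▸ hPclosed g p0 hp0 (hg'.symm ▸ hq0T))
  have hfus : ∀ a ∈ (S : Subgroup M), ∀ b ∈ (S : Subgroup M), orderOf a = 2 → orderOf b = 2 →
      IsConj a b → ∃ n ∈ NM, n * a * n⁻¹ = b := by
    intro a ha b hb _ _ hab
    obtain ⟨g, hg⟩ := isConj_iff.mp hab
    haveI : IsMulCommutative (S : Subgroup M) := hTMea.1
    obtain ⟨n, hn, hne⟩ := S.conj_eq_normalizer_conj_of_mem a g⁻¹ ha (by rw [inv_inv, hg]; exact hb)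
    rw [inv_inv, hg] at hne
    exact ⟨n⁻¹, inv_mem hn, by rw [inv_inv]; exact hne.symm⟩
  have hMfac := engine S (A := TM) (N := NM) hTMea
    (by rw [hTMdef, Nat.card_congr (subgroupOfEquivOfLe hTM).toEquiv, hT16]; norm_num)
    le_rfl le_normalizer le_rfl hCA (fun a ha ha1 => (hcent a ha ha1).mono
      (inf_le_left.trans le_normalizer))
    (fun a ha _ hna => absurd ha hna) hfus (hord p0 (hPT hp0) _ hp01)
    (hord q0 hq0T _ (fun h => hq0P (h ▸ one_mem P))) hpq
  -- back to `Q`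
  have hfacQ : ∀ q : Q, ∃ o ∈ Cfsg.oddCore Q, o⁻¹ * q ∈ N := by
    have haux : ∀ q ∈ M, ∃ o ∈ Cfsg.oddCore Q, o⁻¹ * q ∈ N := by
      intro q hq
      obtain ⟨o, ho, hn⟩ := hMfac ⟨q, hq⟩
      exact ⟨o, H51.pPrimeCore_map_subtype_le 2 ⟨o, ho, rfl⟩, hNMN _ hn⟩
    intro q
    by_cases hq : q ∈ M
    · exact haux q hq
    · obtain ⟨o, ho, hn⟩ := haux (q * e) ((mul_mem_iff_of_index_two hMi).mpr (iff_of_false hq heM))
      refine ⟨o, ho, ?_⟩
      have := mul_mem hn (hRN he)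
      rwa [mul_assoc, mul_assoc, he1, mul_one] at this
  have hTCodd : ¬ 2 ∣ T.relIndex C := by
    rintro ⟨m, hm⟩
    apply hC32
    have h1 := (T.subgroupOf C).card_mul_index
    rw [Nat.card_congr (subgroupOfEquivOfLe hTC).toEquiv, hT16,
      show (T.subgroupOf C).index = 2 * m from hm] at h1
    exact ⟨m, by omega⟩
  have hCfac : Factor C T := factor_abelian hTC (R.isPGroup'.to_le hTR) hTCodd
    fun x hx _ a ha => (mem_centralizer_iff.mp hx a ha).symm
  have hD : oddCoreIn C ≤ Cfsg.oddCore Q := by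
    refine le_trans ?_ oddCoreIn_top_le
    refine le_oddCoreIn_of_factor (H := N) ?_ le_top ((oddCoreIn_le C).trans hCN) ?_
      (odd_card_oddCoreIn C)
    · intro q _
      obtain ⟨o, ho, hn⟩ := hfacQ q
      exact ⟨o, le_oddCoreIn_top ho, hn⟩
    · refine le_trans ?_ (normalizer_le_normalizer_oddCoreIn C)
      intro n hn
      exact mem_normalizer_fintype fun c hc => hCnor n hn c hc
  intro q
  obtain ⟨o, ho, hn⟩ := hfacQ q
  obtain ⟨k, hk⟩ := hnk _ hn
  set m := (t ^ k)⁻¹ * (o⁻¹ * q) with hm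
  haveI := H19.pPrimeCore_normal 2 Q
  have htk : t ^ k ∈ zpowers t := pow_mem (mem_zpowers t) k
  have hfin : ∀ d ∈ oddCoreIn C, ∀ s ∈ (R : Subgroup Q), m = d * s →
      ∃ o ∈ Cfsg.oddCore Q, o⁻¹ * q ∈ (R : Subgroup Q) ⊔ zpowers t := by
    intro d hd s hs hms
    refine ⟨o * (t ^ k * d * (t ^ k)⁻¹),
      mul_mem ho ((inferInstance : (Cfsg.pPrimeCore 2 Q).Normal).conj_mem d (hD hd) _), ?_⟩
    have : (o * (t ^ k * d * (t ^ k)⁻¹))⁻¹ * q = t ^ k * s := by
      rw [show q = o * (t ^ k * m) by rw [hm]; group, hms]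
      group
    rw [this]
    exact mul_mem (mem_sup_right htk) (mem_sup_left hs)
  rcases hfixT m hk.1 p0 (hPT hp0) hp01 (hKfix hk p0 hp0) with h | h
  · obtain ⟨d, hd, hs⟩ := hCfac m h
    exact hfin d hd (d⁻¹ * m) (hTR hs) (by group)
  · obtain ⟨d, hd, hs⟩ := hCfac (m * e) h
    exact hfin d hd (d⁻¹ * (m * e) * e⁻¹) (mul_mem (hTR hs) (inv_mem he)) (by group)

end Cfsg.Agent.H80.A8Type
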