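import Cfsg.Agent.H80.A8Type.SylowFacts
import Cfsg.Agent.H80.A8Type.QuotCent

/-! The centraliser of the involution `z`. -/

set_option autoImplicit false

namespace Cfsg.Agent.H80.A8Type

open Subgroup
open Cfsg.Agent.H74 (oddCoreIn oddCoreIn_le le_normalizer_oddCoreIn odd_card_oddCoreIn le_oddCoreIn)

universe u

/-- `δ₀`. -/
def e0v : Vec := Pi.single 0 1

theorem e0_facts : e0v ≠ 0 ∧ e0v ≠ 1 ∧ ¬ (e0v + zv = 0 ∨ e0v + zv = 1) ∧ par e0v = 1 ∧
    par zv = 0 ∧ zv ≠ 0 ∧ zv ≠ 1 ∧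
    (∀ w : Vec, par w = 0 ∨ par (w + e0v) = 0) ∧
    (∀ i : Fin 5, par (Pi.single i 1) = 0 → i = 4) ∧
    (∀ v ∈ Vset, par (e0v + e0v ∘ ⇑((v : Equiv.Perm (Fin 5))⁻¹)) = 0 ∧
      (e0v + e0v ∘ ⇑((v : Equiv.Perm (Fin 5))⁻¹) ∈ ({0, 1, zv, zv + 1} : Finset Vec) → v = 1)) := by
  decide +kernel

theorem cube_facts : ∀ v ∈ Vset, ∀ a ∈ Vset,
    a * ((v * tau) * a * (v * tau)⁻¹) * ((v * tau) * (v * tau) * a * ((v * tau) * (v * tau))⁻¹) = 1 ∧
    ((v * tau : A5) : Equiv.Perm (Fin 5)) 4 = 4 := by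
  decide +kernel

variable {G : Type u} [Group G] [Finite G] {d : Data G} {c : Coord d}

theorem card_map_mk {C : Type u} [Group C] [Finite C] (U H : Subgroup C) [U.Normal] (hUH : U ≤ H) :
    Nat.card U * Nat.card (H.map (QuotientGroup.mk' U)) = Nat.card H := by
  have h := ((QuotientGroup.mk' U).comp H.subtype).ker.card_mul_index
  rw [index_ker, MonoidHom.range_comp, range_subtype] at h
  have hk : ((QuotientGroup.mk' U).comp H.subtype).ker = U.subgroupOf H := by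
    rw [← MonoidHom.comap_ker, QuotientGroup.ker_mk']; rfl
  rw [hk, Nat.card_congr (subgroupOfEquivOfLe hUH).toEquiv] at h
  exact h

namespace Classes

variable (K : Classes d c)
include K

theorem relIndex_two {H L : Subgroup G} (hHL : H ≤ L) (a : G) (ha : a ∈ L) (hna : a ∉ H)
    (h : ∀ x ∈ L, x ∈ H ∨ x * a ∈ H) : Nat.card L = 2 * Nat.card H := by
  have h2 : (H.subgroupOf L).index = 2 := by
    refine index_eq_two_iff.mpr ⟨⟨a, ha⟩, fun b => ?_⟩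
    rcases h b b.2 with hb | hb
    · refine Or.inr ⟨hb, fun h' => hna ?_⟩
      have := mul_mem (inv_mem hb) (show (b : G) * a ∈ H from h')
      rwa [inv_mul_cancel_left] at this
    · refine Or.inl ⟨hb, fun h' => hna ?_⟩
      have := mul_mem (inv_mem (show (b : G) ∈ H from h')) hb
      rwa [inv_mul_cancel_left] at this
  rw [← (H.subgroupOf L).card_mul_index, h2, Nat.card_congr (subgroupOfEquivOfLe hHL).toEquiv, mul_comm]

theorem factor_z : Factor (centralizer ({c.e zv} : Set G)) d.N := by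
  haveI := Fact.mk Nat.prime_two
  obtain ⟨he00, he01, he0z, hpe0, hpz, hz0, hz1, hflip, hpsingle, he0V⟩ := e0_facts
  set z := c.e zv with hzdef
  set C := centralizer ({z} : Set G)
  have hSC : (d.S : Subgroup G) ≤ C := fun s hs =>
    mem_centralizer_singleton_iff.mpr (mul_inv_eq_iff_eq_mul.mp (c.z_central hs))
  have hzC : z ∈ C := mem_centralizer_singleton_iff.mpr rfl
  have hzo : orderOf z = 2 := c.orderOf_e hz0 hz1
  let zC : C := ⟨z, hzC⟩
  let U : Subgroup C := zpowers zC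
  have hUc : U ≤ center C := zpowers_le.mpr <| mem_center_iff.mpr fun g =>
    Subtype.ext (mem_centralizer_singleton_iff.mp g.2)
  haveI : U.Normal := ⟨fun n hn g => by
    rw [mem_center_iff.mp (hUc hn) g, mul_inv_cancel_right]; exact hn⟩
  have hUcard : Nat.card U = 2 := by rw [Nat.card_zpowers, ← Subgroup.orderOf_coe]; exact hzo
  have hUp : IsPGroup 2 U := IsPGroup.of_card (n := 1) (by rw [hUcard, pow_one])
  have hUmem : ∀ y : C, y ∈ U ↔ (y : G) ∈ zpowers z := fun y =>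
    ⟨fun ⟨k, hk⟩ => ⟨k, by rw [← hk]; rfl⟩, fun ⟨k, hk⟩ => ⟨k, Subtype.ext hk⟩⟩
  let q := QuotientGroup.mk' U
  have hqone : ∀ y : C, q y = 1 ↔ (y : G) ∈ zpowers z := fun y =>
    (QuotientGroup.eq_one_iff y).trans (hUmem y)
  have hzP8 : z ∈ K.P8 := ⟨zv, hpz, rfl⟩
  have hzT1 : zpowers z ≤ K.T1 := zpowers_le.mpr (K.P8_le_T1 hzP8)
  let SC : Sylow 2 C := d.S.subtype hSC
  let R := SC.mapSurjective (QuotientGroup.mk'_surjective U)
  let TQ : Subgroup (C ⧸ U) := (K.T1.subgroupOf C).map q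
  let PQ : Subgroup (C ⧸ U) := (K.P8.subgroupOf C).map q
  have hT1C : K.T1 ≤ C := K.T1_le.trans hSC
  have hP8C : K.P8 ≤ C := K.P8_le_T1.trans hT1C
  have hpre : ∀ (H : Subgroup G), zpowers z ≤ H → ∀ y : C, q y ∈ (H.subgroupOf C).map q → (y : G) ∈ H := by
    rintro H hH y ⟨x, hx, hxe⟩
    have h1 : (((x⁻¹ * y) : C) : G) ∈ zpowers z := (hUmem _).mp ((QuotientGroup.eq).mp hxe)
    have h2 := mul_mem (show (x : G) ∈ H from hx) (hH h1)
    simpa using h2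
  -- the lifts
  set e := c.e e0v with hedef
  have heS : e ∈ (d.S : Subgroup G) := d.A_le (c.mem _)
  let eC : C := ⟨e, hSC heS⟩
  have heT : e ∉ K.T1 := fun h => by
    have := K.par_of_mem (K.T1_inf_A h (c.mem _))
    rw [hpe0] at this
    exact one_ne_zero this
  obtain ⟨k, v, hv, hkπ, hkS⟩ := d.exists_normalizing
  have hk4 : ((d.π k : A5) : Equiv.Perm (Fin 5)) 4 = 4 := by
    rw [hkπ]; exact (cube_facts v hv 1 (by decide)).2
  have hkC : (k : G) ∈ C := mem_centralizer_singleton_iff.mpr <| mul_inv_eq_iff_eq_mul.mp <| by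
    rw [hzdef, c.conj_e, zv, single_comp, hk4]
  let kC : C := ⟨k, hkC⟩
  have hkA : ∀ a ∈ d.A, (k : G) * a * (k : G)⁻¹ ∈ d.A := fun a ha => d.conj_mem k.2 ha
  have hkA' : ∀ a, (k : G) * a * (k : G)⁻¹ ∈ d.A → a ∈ d.A := fun a ha =>
    (mem_normalizer_iff.mp (d.mem_normalizer k.2) a).mpr ha
  have hkP8 : ∀ a ∈ K.P8, (k : G) * a * (k : G)⁻¹ ∈ K.P8 := by
    rintro _ ⟨w, hw, rfl⟩
    refine ⟨_, ?_, (c.conj_e k w).symm⟩
    rw [hkπ, (par_tau v hv w).1, hw]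
  have hkT1 : ∀ x ∈ K.T1, (k : G) * x * (k : G)⁻¹ ∈ K.T1 := by
    intro x hx
    refine ⟨(mem_normalizer_iff.mp hkS x).mp hx.1, fun h => hkP8 _ (hx.2.1 (hkA' x h)), fun h => ?_⟩
    have h1 := hx.2.2 (fun h' => h (hkA x h'))
    obtain ⟨n, hn⟩ := h1
    refine ⟨n, ?_⟩
    show z ^ n = _
    calc z ^ n = (k : G) * z ^ n * (k : G)⁻¹ := by
          rw [← conj_zpow, mem_centralizer_singleton_iff.mp hkC, mul_inv_cancel_right]
      _ = (k : G) * (x * x) * (k : G)⁻¹ := by rw [show z ^ n = x * x from hn]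
      _ = _ := by group
  -- orders
  have hP8card : Nat.card K.P8 = 8 := by
    have h := K.relIndex_two K.P8_le e (c.mem _) (fun h => heT (K.P8_le_T1 h)) (fun x hx => by
      obtain ⟨w, rfl⟩ := c.surj x hx
      rcases hflip w with h | h
      · exact Or.inl ⟨w, h, rfl⟩
      · exact Or.inr ⟨w + e0v, h, c.add w e0v⟩)
    rw [d.card_A] at h
    omega
  have hT1card : Nat.card K.T1 = 32 := by
    have h := K.relIndex_two K.T1_le e heS heT (fun x hx => by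
      obtain ⟨i, hi, w, rfl⟩ := K.exists_split hx
      rcases hflip w with h | h
      · exact Or.inl ((K.mem_T1_iff hi).mpr h)
      · refine Or.inr ?_
        rw [mul_assoc, hedef, ← c.add]
        exact (K.mem_T1_iff hi).mpr h)
    rw [c.card_S] at h
    omega
  have hTQ : Nat.card TQ = 16 := by
    have h := card_map_mk U (K.T1.subgroupOf C) fun y hy => hzT1 ((hUmem y).mp hy)
    rw [hUcard, Nat.card_congr (subgroupOfEquivOfLe hT1C).toEquiv, hT1card] at h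
    change 2 * Nat.card TQ = 32 at h
    omega
  have hPQ : Nat.card PQ = 4 := by
    have h := card_map_mk U (K.P8.subgroupOf C) fun y hy =>
      (zpowers_le.mpr hzP8 : zpowers z ≤ K.P8) ((hUmem y).mp hy)
    rw [hUcard, Nat.card_congr (subgroupOfEquivOfLe hP8C).toEquiv, hP8card] at h
    change 2 * Nat.card PQ = 8 at h
    omega
  have hRmem : ∀ y : C, (y : G) ∈ (d.S : Subgroup G) → q y ∈ (R : Subgroup (C ⧸ U)) := fun y hy =>
    ⟨y, hy, rfl⟩
  have hTR : TQ ≤ (R : Subgroup (C ⧸ U)) := by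
    rintro _ ⟨y, hy, rfl⟩; exact hRmem y (K.T1_le hy)
  have hRcard : Nat.card (R : Subgroup (C ⧸ U)) = 32 := by
    have h := card_map_mk U (SC : Subgroup C) fun y hy => (K.T1_le (hzT1 ((hUmem y).mp hy)))
    have hSCcard : Nat.card (SC : Subgroup C) = 64 := by
      rw [← c.card_S]; exact Nat.card_congr (subgroupOfEquivOfLe hSC).toEquiv
    rw [hUcard, hSCcard] at h
    change 2 * Nat.card (R : Subgroup (C ⧸ U)) = 64 at h
    omega
  have hTi : TQ.relIndex (R : Subgroup (C ⧸ U)) = 2 := by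
    have h := (TQ.subgroupOf (R : Subgroup (C ⧸ U))).card_mul_index
    rw [Nat.card_congr (subgroupOfEquivOfLe hTR).toEquiv, hTQ, hRcard] at h
    show (TQ.subgroupOf (R : Subgroup (C ⧸ U))).index = 2
    omega
  have hTel : Cfsg.IsElementaryAbelian 2 TQ := by
    have hsq : ∀ x ∈ TQ, x * x = 1 := by
      rintro _ ⟨y, hy, rfl⟩
      rw [← map_mul, hqone]
      exact K.sq_mem hy
    refine ⟨⟨⟨fun a b => Subtype.ext ?_⟩⟩, fun x hx => by rw [pow_two]; exact hsq x hx⟩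
    have h1 := hsq _ a.2
    have h2 := hsq _ b.2
    have h3 := hsq _ (mul_mem a.2 b.2)
    show (a : C ⧸ U) * b = b * a
    have h4 := inv_eq_of_mul_eq_one_right h3
    rw [mul_inv_rev, inv_eq_of_mul_eq_one_right h1, inv_eq_of_mul_eq_one_right h2] at h4
    exact h4.symm
  -- the hypotheses about `e`
  have heconj : ∀ g : C ⧸ U, g * q eC * g⁻¹ ∉ TQ := by
    intro gq hg
    obtain ⟨g, rfl⟩ := QuotientGroup.mk'_surjective U gq
    rw [← map_inv, ← map_mul, ← map_mul] at hg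
    set y := (g : G) * e * (g : G)⁻¹ with hy
    have hyT : y ∈ K.T1 := hpre K.T1 hzT1 _ hg
    have hyA : y ∈ d.A := K.conj_mem_A (c.mem _) (K.T1_le hyT)
    have hc : IsConj (c.e zv) y := (isConj_iff.mpr ⟨(d.lift (movers 0) : G), by
      rw [c.conj_e, d.π_lift, zv, single_comp, movers_apply]; rfl⟩ : IsConj (c.e zv) e).trans
        (isConj_iff.mpr ⟨g, rfl⟩)
    obtain ⟨i, hi⟩ := K.eq_single_of_conj hyA hc
    have h4 : i = 4 := hpsingle i (K.par_of_mem (hi ▸ K.T1_inf_A hyT hyA))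
    rw [h4, ← zv, ← hzdef] at hi
    have h5 := mem_centralizer_singleton_iff.mp g.2
    refine he0z (c.e_eq_iff.mp ?_)
    rw [← hedef, ← hzdef]
    calc e = (g : G)⁻¹ * y * g := by rw [hy]; group
      _ = (g : G)⁻¹ * (z * g) := by rw [hi, mul_assoc]
      _ = z := by rw [← h5, inv_mul_cancel_left]
  have heinv : e⁻¹ = e := inv_eq_of_mul_eq_one_right (d.sq (c.mem _))
  have hcommG : ∀ x ∈ (d.S : Subgroup G), ∀ hx : x ∈ d.N,
      e * x * e⁻¹ * x⁻¹ = c.e (e0v + e0v ∘ ⇑((d.π ⟨x, hx⟩ : Equiv.Perm (Fin 5))⁻¹)) := by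
    intro x _ hx
    rw [c.add, ← c.conj_e, heinv]
    simp only [mul_assoc]
    rfl
  have hcomm : ∀ x ∈ TQ, q eC * x * (q eC)⁻¹ * x⁻¹ ∈ PQ := by
    rintro _ ⟨y, hy, rfl⟩
    rw [← map_inv, ← map_inv, ← map_mul, ← map_mul, ← map_mul]
    refine ⟨_, ?_, rfl⟩
    show e * (y : G) * e⁻¹ * (y : G)⁻¹ ∈ K.P8
    have hyS : (y : G) ∈ (d.S : Subgroup G) := K.T1_le hy
    rw [hcommG _ hyS (d.S_le hyS)]
    exact ⟨_, (he0V _ ((d.image _).mp ⟨_, hyS, rfl⟩)).1, rfl⟩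
  have hfix : ∀ x ∈ TQ, q eC * x = x * q eC → x ∈ PQ := by
    rintro _ ⟨y, hy, rfl⟩ hxe
    have h1 : ((eC * y * eC⁻¹ * y⁻¹ : C) : G) ∈ zpowers z := by
      rw [← hqone, map_mul, map_mul, map_mul, map_inv, map_inv, hxe]
      group
    have hyS : (y : G) ∈ (d.S : Subgroup G) := K.T1_le hy
    change e * (y : G) * e⁻¹ * (y : G)⁻¹ ∈ zpowers z at h1
    rw [hcommG _ hyS (d.S_le hyS)] at h1
    have h2 := (he0V _ ((d.image _).mp ⟨_, hyS, rfl⟩)).2 (c.mem_set_of_z_powers h1)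
    exact ⟨y, K.T1_inf_A hy (d.mem_A_of_π (s := ⟨(y : G), d.S_le hyS⟩) hyS h2), rfl⟩
  have hPZ : ∀ p ∈ PQ, ∀ s ∈ (R : Subgroup (C ⧸ U)), s * p = p * s := by
    rintro _ ⟨p, hp, rfl⟩ _ ⟨s, hs, rfl⟩
    obtain ⟨w, hw, hpw⟩ := (hp : (p : G) ∈ K.P8)
    change c.e w = (p : G) at hpw
    have hsS : (s : G) ∈ (d.S : Subgroup G) := hs
    have h1 : ((s * p * s⁻¹ * p⁻¹ : C) : G) ∈ zpowers z := by
      show (s : G) * p * (s : G)⁻¹ * (p : G)⁻¹ ∈ zpowers z
      have h2 := c.mem_z_powers ((par_facts _ ((d.image _).mp ⟨⟨s, d.S_le hsS⟩, hsS, rfl⟩) w).2.2.1 hw)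
      rw [c.add, ← c.conj_e] at h2
      rw [← hpw, inv_eq_of_mul_eq_one_right (d.sq (c.mem w))]
      exact h2
    rw [← hqone, map_mul, map_mul, map_mul, map_inv, map_inv, mul_inv_eq_one,
      mul_inv_eq_iff_eq_mul] at h1
    exact h1
  have hPclosed : ∀ g : C ⧸ U, ∀ p ∈ PQ, g * p * g⁻¹ ∈ TQ → g * p * g⁻¹ ∈ PQ := by
    rintro gq _ ⟨p, hp, rfl⟩ hg
    obtain ⟨g, rfl⟩ := QuotientGroup.mk'_surjective U gq
    rw [← map_inv, ← map_mul, ← map_mul] at hg ⊢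
    have h1 : (g : G) * p * (g : G)⁻¹ ∈ K.T1 := hpre K.T1 hzT1 _ hg
    exact ⟨_, K.T1_inf_A h1 (K.conj_mem_A (K.P8_le hp) (K.T1_le h1)), rfl⟩
  have htT : q kC ∈ normalizer (TQ : Set (C ⧸ U)) := by
    apply Subgroup.mem_normalizer_fintype
    rintro _ ⟨y, hy, rfl⟩
    show q kC * q y * (q kC)⁻¹ ∈ TQ
    rw [← map_inv, ← map_mul, ← map_mul]
    exact ⟨_, hkT1 _ hy, rfl⟩
  have hcube : ∀ x ∈ TQ, x * (q kC * x * (q kC)⁻¹) * (q kC * q kC * x * (q kC * q kC)⁻¹) ∈ PQ := by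
    rintro _ ⟨y, hy, rfl⟩
    simp only [← map_inv, ← map_mul]
    refine ⟨_, ?_, rfl⟩
    show (y : G) * ((k : G) * y * (k : G)⁻¹) * ((k : G) * k * y * ((k : G) * k)⁻¹) ∈ K.P8
    have h2 : (k : G) * k * y * ((k : G) * k)⁻¹ = (k : G) * ((k : G) * y * (k : G)⁻¹) * (k : G)⁻¹ := by
      group
    have hy' : (y : G) ∈ K.T1 := hy
    have hT : (y : G) * ((k : G) * y * (k : G)⁻¹) * ((k : G) * k * y * ((k : G) * k)⁻¹) ∈ K.T1 := by
      rw [h2]; exact mul_mem (mul_mem hy' (hkT1 _ hy')) (hkT1 _ (hkT1 _ hy'))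
    refine K.T1_inf_A hT (d.mem_A_of_π (s := ⟨_, d.S_le (K.T1_le hT)⟩) (K.T1_le hT) ?_)
    set y' : ↥d.N := ⟨(y : G), d.S_le (K.T1_le hy')⟩
    have e1 : (⟨_, d.S_le (K.T1_le hT)⟩ : ↥d.N) = y' * (k * y' * k⁻¹) * (k * k * y' * (k * k)⁻¹) := rfl
    rw [e1]
    simp only [map_mul, map_inv, hkπ]
    exact (cube_facts v hv _ ((d.image _).mp ⟨y', K.T1_le hy', rfl⟩)).1
  have htP : ∀ p ∈ PQ, q kC * p = p * q kC → p = 1 := by
    rintro _ ⟨p, hp, rfl⟩ hpk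
    obtain ⟨w, hw, hpw⟩ := (hp : (p : G) ∈ K.P8)
    change c.e w = (p : G) at hpw
    have h1 : ((kC * p * kC⁻¹ * p⁻¹ : C) : G) ∈ zpowers z := by
      rw [← hqone, map_mul, map_mul, map_mul, map_inv, map_inv, hpk]
      group
    change (k : G) * (p : G) * (k : G)⁻¹ * (p : G)⁻¹ ∈ zpowers z at h1
    rw [← hpw, inv_eq_of_mul_eq_one_right (d.sq (c.mem w)), c.conj_e, ← c.add, hkπ] at h1
    rw [hqone, ← hpw]
    exact c.mem_z_powers ((par_tau v hv w).2 hw (c.mem_set_of_z_powers h1))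
  have hqe : orderOf (q eC) = 2 := by
    refine orderOf_eq_prime ?_ fun h => heT (hzT1 ((hqone eC).mp h))
    rw [← map_pow, show eC ^ 2 = 1 from Subtype.ext (by
      rw [Subgroup.coe_pow, pow_two]; exact d.sq (c.mem _)), map_one]
  have hmain := quotient_factor R TQ PQ (q eC) (q kC) hTR hTi hTel hTQ
    (map_mono fun y hy => K.P8_le_T1 hy) hPQ (hRmem _ heS) hqe
    (fun h => heT (hpre K.T1 hzT1 _ h)) heconj hcomm hfix hPZ hPclosed htT hcube htP
  intro g hg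
  obtain ⟨o, ho, hn⟩ := hmain (q ⟨g, hg⟩)
  obtain ⟨o', ho', rfl⟩ := oddCore_quotient_le U hUp hUc ho
  refine ⟨o', ⟨o', ho', rfl⟩, ?_⟩
  have hle : (R : Subgroup (C ⧸ U)) ⊔ zpowers (q kC) ≤ (d.N.subgroupOf C).map q := by
    refine sup_le ?_ (zpowers_le.mpr ⟨kC, k.2, rfl⟩)
    rintro _ ⟨y, hy, rfl⟩
    exact ⟨y, d.S_le hy, rfl⟩
  have hn' := hle hn
  rw [← map_inv, ← map_mul] at hn'
  exact hpre d.N (zpowers_le.mpr (d.A_le_N (c.mem zv))) _ hn'

end Classes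

end Cfsg.Agent.H80.A8Type
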