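import Cfsg.Agent.H80.A8Type.Basic
import Cfsg.Agent.S0217
import Cfsg.Agent.S0223
import Cfsg.Agent.H50.StronglyEmbedded
import Cfsg.Agent.S0205
import Cfsg.Prelude.Def_Transfer

/-! The engine: when all centralisers of involutions factor through `N = N(A)`, so does `G`. -/

set_option autoImplicit false

namespace Cfsg.Agent.H80.A8Type

open Subgroup
open Cfsg.Agent.H74 (oddCoreIn oddCoreIn_le le_normalizer_oddCoreIn odd_card_oddCoreIn le_oddCoreIn)

universe u

variable {G : Type u} [Group G] [Finite G]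

theorem exists_conj_mem_sylow (S : Sylow 2 G) {M : Subgroup G} (hSM : (S : Subgroup G) ≤ M) {t : G}
    (htM : t ∈ M) (ht : orderOf t = 2) : ∃ m ∈ M, m * t * m⁻¹ ∈ (S : Subgroup G) := by
  haveI := Fact.mk Nat.prime_two
  have hmax : ∀ T ≤ M, IsPGroup 2 T → Nat.card T ≤ Nat.card (S : Subgroup G) := by
    intro T _ hT
    obtain ⟨R, hR⟩ := hT.exists_le_sylow
    calc Nat.card T ≤ Nat.card R := Nat.card_le_card_of_injective _ (inclusion_injective hR)
      _ = _ := by rw [R.card_eq_multiplicity, S.card_eq_multiplicity]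
  have hz : IsPGroup 2 (zpowers t) := IsPGroup.of_card (n := 1) (by rw [Nat.card_zpowers, ht, pow_one])
  obtain ⟨m, hm, hle⟩ := H93.exists_conj_le hSM S.isPGroup' hmax (zpowers_le.mpr htM) hz
  exact ⟨m, hm, hle ⟨t, mem_zpowers _, rfl⟩⟩

theorem engine (S : Sylow 2 G) {A N : Subgroup G} (hA : Cfsg.IsElementaryAbelian 2 A)
    (h8 : 8 ≤ Nat.card A) (hAS : A ≤ (S : Subgroup G)) (hSN : (S : Subgroup G) ≤ N)
    (hN : N ≤ normalizer (A : Set G))
    (hCA : ∀ x ∈ N, x ∈ centralizer (A : Set G) → x ∈ A ⊔ oddCoreIn N)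
    (hC : ∀ a ∈ A, a ≠ 1 → Factor (centralizer ({a} : Set G)) N)
    (hout : ∀ t ∈ (S : Subgroup G), orderOf t = 2 → t ∉ A → ∀ M : Subgroup G, N ≤ M →
      (∀ a ∈ A, a ≠ 1 → centralizer ({a} : Set G) ≤ M) → centralizer ({t} : Set G) ≤ M)
    (hfus : ∀ t ∈ (S : Subgroup G), ∀ s ∈ (S : Subgroup G), orderOf t = 2 → orderOf s = 2 →
      IsConj t s → ∃ n ∈ N, n * t * n⁻¹ = s)
    {p q : G} (hp : orderOf p = 2) (hq : orderOf q = 2) (hpq : ¬ IsConj p q) :
    ∀ g : G, ∃ o ∈ Cfsg.oddCore G, o⁻¹ * g ∈ N := by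
  haveI := Fact.mk Nat.prime_two
  obtain ⟨hAc, hAe⟩ := hA
  have hcomm : ∀ a ∈ A, ∀ b ∈ A, a * b = b * a := fun a ha b hb => setLike_mul_comm ha hb
  set θ : G → Subgroup G := fun a => oddCoreIn (centralizer ({a} : Set G)) with hθ
  have hAC : ∀ a ∈ A, A ≤ centralizer ({a} : Set G) := fun a ha x hx =>
    mem_centralizer_singleton_iff.mpr (hcomm x hx a ha)
  -- `O(N)` centralises `A`
  have hON : ∀ d ∈ oddCoreIn N, ∀ a ∈ A, d * a = a * d := by
    intro d hd a ha
    have h1 : d * a * d⁻¹ * a⁻¹ ∈ A :=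
      mul_mem ((mem_normalizer_iff.mp (hN (oddCoreIn_le N hd)) a).mp ha) (inv_mem ha)
    have h2 : d * a * d⁻¹ * a⁻¹ ∈ oddCoreIn N := by
      have h := conj_mem_oddCoreIn (hSN (hAS ha)) (inv_mem hd)
      have := mul_mem hd h
      simpa [mul_assoc] using this
    have h3 : d * a * d⁻¹ * a⁻¹ = 1 :=
      H93.eq_one_of_two_odd (S.isPGroup'.to_le hAS) (odd_card_oddCoreIn N) h1 h2
    rw [← mul_inv_eq_iff_eq_mul, ← mul_inv_eq_one, h3]
  have hbal : ∀ a ∈ A, a ≠ 1 → ∀ b ∈ A, b ≠ 1 →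
      θ a ⊓ centralizer ({b} : Set G) ≤ θ b := by
    intro a ha _ b hb hb1 x hx
    obtain ⟨hxa, hxb⟩ := hx
    set C := centralizer ({b} : Set G)
    obtain ⟨o, ho, hn⟩ := hC b hb hb1 x hxb
    set n := o⁻¹ * x with hndef
    have hnC : n ∈ C := mul_mem (inv_mem (oddCoreIn_le C ho)) hxb
    have hnA : n ∈ centralizer (A : Set G) := by
      rw [mem_centralizer_iff]
      intro c hc
      have hc' : c ∈ A := hc
      have hv : n * c * n⁻¹ * c⁻¹ ∈ A :=
        mul_mem ((mem_normalizer_iff.mp (hN hn) c).mp hc') (inv_mem hc')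
      have hw : x * c * x⁻¹ * c⁻¹ ∈ θ a := by
        have h := conj_mem_oddCoreIn (hAC a ha hc') (inv_mem hxa)
        have := mul_mem hxa h
        simpa [mul_assoc] using this
      have hwC : x * c * x⁻¹ * c⁻¹ ∈ C :=
        mul_mem (mul_mem (mul_mem hxb (hAC b hb hc')) (inv_mem hxb)) (inv_mem (hAC b hb hc'))
      have hcong : (n * c * n⁻¹ * c⁻¹)⁻¹ * (x * c * x⁻¹ * c⁻¹) ∈ oddCoreIn C := by
        have hv' := hAC b hb hv
        have h1 : (n * c * n⁻¹) * o⁻¹ * (n * c * n⁻¹)⁻¹ ∈ oddCoreIn C :=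
          conj_mem_oddCoreIn (mul_mem (mul_mem hnC (hAC b hb hc')) (inv_mem hnC)) (inv_mem ho)
        have h2 := conj_mem_oddCoreIn (inv_mem hv') (mul_mem ho h1)
        rw [inv_inv] at h2
        have e : x = o * n := by simp [hndef]
        convert h2 using 1
        rw [e]
        group
      have h := eq_one_of_congr (hAC b hb hv) hwC (by simpa using hAe _ hv)
        (H74.odd_orderOf_of_mem (odd_card_oddCoreIn _) hw) hcong
      exact (mul_inv_eq_iff_eq_mul.mp (mul_inv_eq_one.mp h)).symm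
    have hNC : oddCoreIn N ≤ C := fun d hd =>
      mem_centralizer_singleton_iff.mpr (hON d hd b hb)
    have hNθ : oddCoreIn N ≤ θ b :=
      le_oddCoreIn_of_factor (H := N ⊓ C) ((hC b hb hb1).mono (le_refl _)) inf_le_right
        (le_inf (oddCoreIn_le N) hNC) (inf_le_left.trans (le_normalizer_oddCoreIn N))
        (odd_card_oddCoreIn N)
    have h := hCA n hn hnA
    have hAN : A ≤ normalizer (oddCoreIn N : Set G) :=
      ((hAS.trans hSN).trans (le_normalizer_oddCoreIn N))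
    rw [← SetLike.mem_coe, coe_mul_of_left_le_normalizer_right A _ hAN] at h
    obtain ⟨c, hc, d, hd, hcd⟩ := h
    have hx' : c⁻¹ * x ∈ θ b := by
      have h1 := conj_mem_oddCoreIn (inv_mem (hAC b hb hc)) ho
      have h2 := mul_mem h1 (hNθ hd)
      have e : x = o * (c * d) := by
        change c * d = n at hcd
        rw [hcd, hndef]; group
      convert h2 using 1
      rw [e]; group
    have hc1 : c = 1 := eq_one_of_congr (hAC b hb hc) hxb (by simpa using hAe c hc)
      (H74.odd_orderOf_of_mem (odd_card_oddCoreIn _) hxa) hx'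
    simpa [hc1] using hx'
  obtain ⟨hWodd, -⟩ := Cfsg.Agent.S0217.result (p := 2) A hcomm (fun a ha => by simpa using hAe a ha)
    (by simpa using h8) θ (fun a _ _ => oddCoreIn_le _)
    (fun a _ _ h => (Nat.not_even_iff_odd.mpr (odd_card_oddCoreIn _)) (even_iff_two_dvd.mpr h))
    (fun a ha _ b hb x hx => conj_mem_oddCoreIn (hAC a ha hb) hx)
    (fun a _ _ => Cfsg.Agent.S0205.result (odd_card_oddCoreIn _)) hbal
  set W := ⨆ a : {a : G // a ∈ A ∧ a ≠ 1}, θ a with hW
  have hWN : N ≤ normalizer (W : Set G) := by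
    intro n hn
    apply Subgroup.mem_normalizer_fintype
    intro y hy
    have : W.map (MulAut.conj n).toMonoidHom ≤ W := by
      rw [hW, Subgroup.map_iSup]
      refine iSup_le fun a => ?_
      have ha' : n * a.1 * n⁻¹ ∈ A ∧ n * a.1 * n⁻¹ ≠ 1 :=
        ⟨(mem_normalizer_iff.mp (hN hn) _).mp a.2.1, fun h => a.2.2 (conj_eq_one_iff.mp h)⟩
      refine le_trans ?_ (le_iSup _ (⟨_, ha'⟩ : {a : G // a ∈ A ∧ a ≠ 1}))
      rintro _ ⟨o, ho, rfl⟩
      exact conj_mem_oddCoreIn_centralizer ho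
    exact this ⟨y, hy, rfl⟩
  set M := W ⊔ N with hM
  have hCM : ∀ a ∈ A, a ≠ 1 → centralizer ({a} : Set G) ≤ M := by
    intro a ha ha1
    refine (hC a ha ha1).le_sup.trans (sup_le ?_ le_sup_right)
    exact le_trans (le_iSup (fun b : {a : G // a ∈ A ∧ a ≠ 1} => θ b) ⟨a, ha, ha1⟩) le_sup_left
  have hSM : (S : Subgroup G) ≤ M := hSN.trans le_sup_right
  by_cases hMtop : M = ⊤
  · have hWn : W.Normal := normalizer_eq_top_iff.mp <| eq_top_iff.mpr <| by
      rw [← hMtop]; exact sup_le le_normalizer hWN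
    have hWO : W ≤ Cfsg.oddCore G := by
      refine H93.le_oddCore hWn ?_
      rw [← Nat.not_even_iff_odd, even_iff_two_dvd]
      exact hWodd
    intro g
    have hg : g ∈ W ⊔ N := by rw [← hM, hMtop]; exact mem_top g
    rw [← SetLike.mem_coe, Subgroup.normal_mul] at hg
    obtain ⟨o, ho, n, hn, rfl⟩ := hg
    exact ⟨o, hWO ho, by simpa using hn⟩
  · exfalso
    have hCt : ∀ t ∈ (S : Subgroup G), orderOf t = 2 → centralizer ({t} : Set G) ≤ M := by
      intro t ht ht2
      by_cases htA : t ∈ A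
      · exact hCM t htA fun h => by simp [h] at ht2
      · exact hout t ht ht2 htA M le_sup_right hCM
    have heven : Even (Nat.card M) := by
      obtain ⟨a, ha, ha1⟩ := A.bot_or_exists_ne_one.resolve_left fun h => by
        rw [h, Subgroup.card_bot] at h8; omega
      have : orderOf a = 2 := orderOf_eq_prime (by simpa using hAe a ha) ha1
      rw [even_iff_two_dvd, ← this, ← Subgroup.orderOf_mk a (hSM (hAS ha))]
      exact orderOf_dvd_natCard _
    have hse : Cfsg.IsStronglyEmbedded M := (Cfsg.Agent.S0223.result M hMtop heven).mpr ⟨by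
        intro t htM ht
        obtain ⟨m, hm, hmS⟩ := exists_conj_mem_sylow S hSM htM ht
        have h := hCt _ hmS (by rw [← ht]; exact MulEquiv.orderOf_eq (MulAut.conj m) t)
        intro c hc
        have := mul_mem (mul_mem (inv_mem hm) (h (show m * c * m⁻¹ ∈ _ by
          rw [← map_conj_centralizer]; exact ⟨c, hc, rfl⟩))) hm
        simpa [mul_assoc] using this, by
        intro t htM s hsM ht hs hts
        obtain ⟨m, hm, hmS⟩ := exists_conj_mem_sylow S hSM htM ht
        obtain ⟨k, hk, hkS⟩ := exists_conj_mem_sylow S hSM hsM hs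
        obtain ⟨n, hn, hne⟩ := hfus _ hmS _ hkS
          (by rw [← ht]; exact MulEquiv.orderOf_eq (MulAut.conj m) t)
          (by rw [← hs]; exact MulEquiv.orderOf_eq (MulAut.conj k) s)
          (((isConj_iff.mpr ⟨m, rfl⟩ : IsConj t (m * t * m⁻¹)).symm.trans hts).trans
            (isConj_iff.mpr ⟨k, rfl⟩))
        refine ⟨k⁻¹ * n * m, mul_mem (mul_mem (inv_mem hk) (mem_sup_right hn)) hm, ?_⟩
        calc k⁻¹ * n * m * t * (k⁻¹ * n * m)⁻¹ = k⁻¹ * (n * (m * t * m⁻¹) * n⁻¹) * k := by group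
          _ = s := by rw [hne]; group⟩
    exact hpq (H50.se_isConj hse hp hq)

end Cfsg.Agent.H80.A8Type
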