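import Cfsg.Agent.H80.A8Type.Coord
import Cfsg.Agent.H80.A8Type.Engine

/-! Three classes of involutions force the deleted permutation module. -/

set_option autoImplicit false

namespace Cfsg.Agent.H80.A8Type

open Subgroup
open scoped IsMulCommutative

universe u

/-- `δ₄`. -/
def zv : Vec := Pi.single 4 1
/-- `δ₀ + δ₁`. -/
def bv : Vec := Pi.single 0 1 + Pi.single 1 1

theorem single_comp (g : A5) (i : Fin 5) :
    (Pi.single i 1 : Vec) ∘ ⇑((g : Equiv.Perm (Fin 5))⁻¹) = Pi.single ((g : Equiv.Perm (Fin 5)) i) 1 := by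
  ext j
  simp only [Function.comp_apply, Pi.single_apply, Equiv.Perm.inv_eq_iff_eq]

/-- Normalised representatives of the vectors fixed by `v`. -/
def fixset (v : A5) : Finset Vec :=
  Finset.univ.filter fun w => w 4 = 0 ∧ (w ∘ ⇑((v : Equiv.Perm (Fin 5))⁻¹) + w = 0 ∨
    w ∘ ⇑((v : Equiv.Perm (Fin 5))⁻¹) + w = 1)

theorem card_fixset : ∀ v ∈ Vset, v ≠ 1 → (fixset v).card = 4 := by decide +kernel

theorem normalise : ∀ w : Vec, (w 4 = 0 ∨ (w + 1) 4 = 0) ∧
    (∀ w' : Vec, w 4 = 0 → w' 4 = 0 → (w + w' = 0 ∨ w + w' = 1) → w = w') := by decide +kernel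

theorem stab_mul : ∀ g : A5, (g : Equiv.Perm (Fin 5)) 4 = 4 →
    ∃ v ∈ Vset, ∃ j : Fin 3, g = v * tau ^ (j : ℕ) := by decide +kernel

theorem tau_four : (tau : Equiv.Perm (Fin 5)) 4 = 4 ∧ tau * (tau * tau) = 1 := by decide +kernel

theorem zmod_val : ∀ x y : ZMod 2, (x + y).val = x.val + y.val ∨ x.val + y.val = (x + y).val + 2 := by
  decide

theorem zmod_cases : ∀ x : ZMod 2, x = 0 ∨ x = 1 := by decide

theorem vec_eq : ∀ v w : Vec, v + w = 0 → v = w := by decide +kernel

theorem card_half : Fintype.card {w : Vec // w 4 = 0} = 16 := by decide +kernel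

variable {G : Type u} [Group G] [Finite G]

theorem card_classes_le_two (x y : G)
    (h : ∀ t : G, orderOf t = 2 → IsConj t x ∨ IsConj t y) :
    Nat.card {c : ConjClasses G // ∃ x ∈ c.carrier, orderOf x = 2} ≤ 2 := by
  classical
  let s : Finset (ConjClasses G) := {ConjClasses.mk x, ConjClasses.mk y}
  have hs : ∀ c : {c : ConjClasses G // ∃ x ∈ c.carrier, orderOf x = 2}, c.1 ∈ s := by
    rintro ⟨c, t, ht, ht2⟩
    rw [ConjClasses.mem_carrier_iff_mk_eq] at ht
    subst ht
    simp only [s, Finset.mem_insert, Finset.mem_singleton, ConjClasses.mk_eq_mk_iff_isConj]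
    exact h t ht2
  calc Nat.card {c : ConjClasses G // ∃ x ∈ c.carrier, orderOf x = 2}
      ≤ Nat.card {c : ConjClasses G // c ∈ s} :=
        Nat.card_le_card_of_injective (fun c => ⟨c.1, hs c⟩)
          fun a b e => Subtype.ext (congrArg Subtype.val e :)
    _ ≤ 2 := by rw [Nat.card_eq_fintype_card, Fintype.card_coe]; exact Finset.card_le_two

/-- The facts about the classes of involutions. -/
structure Classes (d : Data G) (c : Coord d) where
  u : G
  u_mem : u ∈ (d.S : Subgroup G)
  u_sq : u * u = 1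
  u_not_mem : u ∉ d.A
  cent_four : ∀ v ∈ Vset, v ≠ 1 → ∀ t : ↥d.N, d.π t = v →
    Nat.card (d.A ⊓ centralizer ({(t : G)} : Set G) : Subgroup G) = 4
  nzb : ¬ IsConj (c.e zv) (c.e bv)
  nzu : ¬ IsConj (c.e zv) u
  nbu : ¬ IsConj (c.e bv) u

namespace Coord

variable {d : Data G} (c : Coord d)

theorem cover {a : G} (ha : a ∈ d.A) (ha1 : a ≠ 1) :
    ∃ n ∈ d.N, n * c.e zv * n⁻¹ = a ∨ n * c.e bv * n⁻¹ = a := by
  obtain ⟨w, rfl⟩ := c.surj a ha
  have hshift : ∀ k : Vec, (k = 0 ∨ k = 1) → c.e (w + k) = c.e w := fun k hk => by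
    rw [c.add, (c.eq_one k).mpr hk, mul_one]
  rcases weight_cases w with h | ⟨k, hk, h⟩
  · refine absurd ((c.eq_one w).mpr ?_) ha1
    rcases zmod_cases (w 0) with h0 | h0
    · exact Or.inl (funext fun i => (h i).trans h0)
    · exact Or.inr (funext fun i => (h i).trans h0)
  rcases h with ⟨i, hi⟩ | ⟨i, j, hij, hi⟩
  · refine ⟨d.lift (movers i), (d.lift _).2, Or.inl ?_⟩
    rw [← hshift k hk, hi, c.conj_e, d.π_lift, zv, single_comp, movers_apply]
  · obtain ⟨g, hg0, hg1⟩ := two_transitive 0 1 i j (by decide) hij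
    refine ⟨d.lift g, (d.lift g).2, Or.inr ?_⟩
    rw [← hshift k hk, hi, c.conj_e, d.π_lift, bv, Pi.add_comp, single_comp, single_comp, hg0, hg1]

include c in
theorem cent_four (v : A5) (hv : v ∈ Vset) (hv1 : v ≠ 1) (t : ↥d.N) (ht : d.π t = v) :
    Nat.card (d.A ⊓ centralizer ({(t : G)} : Set G) : Subgroup G) = 4 := by
  have hmem : ∀ w, c.e w ∈ centralizer ({(t : G)} : Set G) ↔
      (w ∘ ⇑((v : Equiv.Perm (Fin 5))⁻¹) + w = 0 ∨ w ∘ ⇑((v : Equiv.Perm (Fin 5))⁻¹) + w = 1) := by
    intro w
    rw [mem_centralizer_singleton_iff, ← c.e_eq_iff, ← ht, ← c.conj_e, mul_inv_eq_iff_eq_mul]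
    exact eq_comm
  let f : {w // w ∈ fixset v} → (d.A ⊓ centralizer ({(t : G)} : Set G) : Subgroup G) := fun w =>
    ⟨c.e w.1, c.mem _, (hmem _).mpr (Finset.mem_filter.mp w.2).2.2⟩
  have hf : Function.Bijective f := by
    refine ⟨fun w w' h => Subtype.ext ?_, fun ⟨a, ha, hat⟩ => ?_⟩
    · exact (normalise w.1).2 w'.1 (Finset.mem_filter.mp w.2).2.1 (Finset.mem_filter.mp w'.2).2.1
        (c.e_eq_iff.mp (congrArg Subtype.val h))
    · obtain ⟨w, rfl⟩ := c.surj a ha
      have hw1 : c.e (w + 1) = c.e w := by rw [c.add, (c.eq_one 1).mpr (Or.inr rfl), mul_one]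
      rcases (normalise w).1 with h | h
      · exact ⟨⟨w, Finset.mem_filter.mpr ⟨Finset.mem_univ _, h, (hmem w).mp hat⟩⟩, rfl⟩
      · exact ⟨⟨w + 1, Finset.mem_filter.mpr
          ⟨Finset.mem_univ _, h, (hmem _).mp (hw1.symm ▸ hat)⟩⟩, Subtype.ext hw1⟩
  rw [← Nat.card_congr (Equiv.ofBijective f hf), Nat.card_eq_fintype_card, Fintype.card_coe,
    card_fixset v hv hv1]

end Coord

namespace Data

variable (d : Data G)

theorem card_CV_le_four : Nat.card d.CV ≤ 4 := by
  by_contra hlt
  set g := movers 0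
  have hg : (g : Equiv.Perm (Fin 5)) 4 ≠ 4 := by rw [movers_apply]; decide
  let f : d.CV × d.CV → d.A := fun p =>
    ⟨(p.1 : G) * d.act g p.2, mul_mem (d.CV_le p.1.2) (d.act_mem g (d.CV_le p.2.2))⟩
  have hf : Function.Injective f := by
    rintro ⟨a, b⟩ ⟨a', b'⟩ h
    have h' : (a : G) * d.act g b = a' * d.act g b' := congrArg Subtype.val h
    have h2 : (a' : G)⁻¹ * a = d.act g ((b' : G) * (b : G)⁻¹) := by
      rw [d.act_mul, inv_eq_of_mul_eq_one_right (d.sq (d.CV_le b.2)),
        inv_eq_of_mul_eq_one_right (d.sq (d.CV_le a'.2))]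
      calc (a' : G) * a = a' * (a * d.act g b) * d.act g b := by
            rw [mul_assoc, mul_assoc, d.sq (d.act_mem g (d.CV_le b.2)), mul_one]
        _ = a' * (a' * d.act g b') * d.act g b := by rw [h']
        _ = d.act g b' * d.act g b := by rw [← mul_assoc, d.sq (d.CV_le a'.2), one_mul]
    by_cases hb : (b' : G) * (b : G)⁻¹ = 1
    · have hbb : b' = b := Subtype.ext (mul_inv_eq_one.mp hb)
      subst hbb
      rw [hb, d.act_one, inv_mul_eq_one] at h2
      rw [Subtype.ext h2.symm]
    · exact absurd (h2 ▸ mul_mem (inv_mem a'.2) a.2)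
        (d.act_not_mem_CV hg (mul_mem b'.2 (inv_mem b.2)) hb)
  have := Nat.card_le_card_of_injective f hf
  rw [Nat.card_prod, d.card_A] at this
  nlinarith

theorem exists_classes (h3 : Nat.card {c : ConjClasses G // ∃ x ∈ c.carrier, orderOf x = 2} = 3) :
    ∃ c : Coord d, Nonempty (Classes d c) := by
  classical
  haveI := Fact.mk Nat.prime_two
  obtain ⟨hτ4, hτ3⟩ := tau_four
  have hconjS : ∀ t : G, orderOf t = 2 →
      ∃ t' ∈ (d.S : Subgroup G), t' * t' = 1 ∧ t' ≠ 1 ∧ IsConj t t' := by
    intro t ht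
    obtain ⟨m, -, hm⟩ := exists_conj_mem_sylow d.S le_top (mem_top t) ht
    refine ⟨_, hm, ?_, ?_, isConj_iff.mpr ⟨m, rfl⟩⟩
    · rw [← pow_two, conj_pow, ← ht, pow_orderOf_eq_one, mul_one, mul_inv_cancel]
    · intro h
      rw [conj_eq_one_iff] at h
      simp [h] at ht
  by_cases hA0 : ∃ a ∈ d.CV, a ≠ 1 ∧ d.act tau a = a
  · obtain ⟨a0, ha0, ha01, hτ⟩ := hA0
    have hτn : ∀ n : ℕ, d.act (tau ^ n) a0 = a0 := by
      intro n
      induction n with
      | zero => exact d.act_id ha0.1
      | succ n ih => rw [pow_succ', ← d.act_comp _ _ ha0.1, ih, hτ]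
    have hfix : ∀ g : A5, (g : Equiv.Perm (Fin 5)) 4 = 4 → d.act g a0 = a0 := by
      intro g hg
      obtain ⟨v, hv, j, rfl⟩ := stab_mul g hg
      rw [← d.act_comp _ _ ha0.1, hτn, ha0.2 v hv]
    haveI := d.elem.1
    let z : Fin 5 → d.A := fun i => ⟨d.act (movers i) a0, d.act_mem _ ha0.1⟩
    have hzact : ∀ (g : A5) (i : Fin 5),
        d.act g (z i) = z ((g : Equiv.Perm (Fin 5)) i) := by
      intro g i
      set j := (g : Equiv.Perm (Fin 5)) i with hj
      have h4 : (((movers j)⁻¹ * (g * movers i) : A5) : Equiv.Perm (Fin 5)) 4 = 4 := by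
        rw [Subgroup.coe_mul, Subgroup.coe_mul, Subgroup.coe_inv, Equiv.Perm.mul_apply,
          Equiv.Perm.mul_apply, movers_apply, ← hj, Equiv.Perm.inv_eq_iff_eq, movers_apply]
      show d.act g (d.act (movers i) a0) = d.act (movers j) a0
      calc d.act g (d.act (movers i) a0) = d.act (movers j * ((movers j)⁻¹ * (g * movers i))) a0 := by
            rw [d.act_comp _ _ ha0.1, mul_inv_cancel_left]
        _ = d.act (movers j) (d.act ((movers j)⁻¹ * (g * movers i)) a0) := (d.act_comp _ _ ha0.1).symm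
        _ = d.act (movers j) a0 := by rw [hfix _ h4]
    have hsq : ∀ a : d.A, a * a = 1 := fun a => Subtype.ext (d.sq a.2)
    let f : Vec → d.A := fun v => ∏ i, z i ^ (v i).val
    have hfadd : ∀ v w, f (v + w) = f v * f w := by
      intro v w
      simp only [f, ← Finset.prod_mul_distrib]
      refine Finset.prod_congr rfl fun i _ => ?_
      rw [← pow_add, Pi.add_apply]
      rcases zmod_val (v i) (w i) with h | h
      · rw [h]
      · rw [h, pow_add, pow_two, hsq, mul_one]
    have hf0 : f 0 = 1 := by simp [f]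
    have hfsingle : ∀ i, f (Pi.single i 1) = z i := by
      intro i
      simp only [f]
      rw [Finset.prod_eq_single i]
      · rw [Pi.single_eq_same]; exact pow_one _
      · intro j _ hji; rw [Pi.single_eq_of_ne hji]; simp
      · simp
    have hfact : ∀ (g : A5) (v : Vec),
        d.act g (f v) = f (v ∘ ⇑((g : Equiv.Perm (Fin 5))⁻¹)) := by
      intro g v
      let F : d.A →* d.A := MonoidHom.mk' (fun a => ⟨d.act g a, d.act_mem g a.2⟩)
        fun a b => Subtype.ext (d.act_mul g a b)
      show ((F (f v) : d.A) : G) = _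
      congr 1
      simp only [f, map_prod, map_pow]
      refine Fintype.prod_equiv (g : Equiv.Perm (Fin 5)) _ _ fun i => ?_
      rw [Function.comp_apply, Equiv.Perm.inv_def, Equiv.symm_apply_apply]
      congr 1
      exact Subtype.ext (hzact g i)
    -- the kernel
    have hker : ∀ v, f v = 1 → v = 0 ∨ v = 1 := by
      intro v hv
      by_cases hconst : ∀ i, v i = v 0
      · rcases zmod_cases (v 0) with h0 | h0
        · exact Or.inl (funext fun i => (hconst i).trans h0)
        · exact Or.inr (funext fun i => (hconst i).trans h0)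
      exfalso
      obtain ⟨i, j, hij, k, hk⟩ := exists_pair v hconst
      have h1 : f (v ∘ ⇑(cyc k : Equiv.Perm (Fin 5))) = 1 := by
        have := hfact (cyc k)⁻¹ v
        rw [hv, Subgroup.coe_inv, inv_inv] at this
        exact Subtype.ext (this.symm.trans (d.act_one _))
      have h2 := hfadd v (v ∘ ⇑(cyc k : Equiv.Perm (Fin 5)))
      rw [hv, h1, one_mul, hk, hfadd, hfsingle, hfsingle] at h2
      have h3 : z i = z j := by
        rw [eq_inv_of_mul_eq_one_left h2, inv_eq_of_mul_eq_one_right (hsq _)]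
      have hall : ∀ k l, z k = z l := by
        intro k l
        by_cases hkl : k = l
        · rw [hkl]
        obtain ⟨g, hgi, hgj⟩ := two_transitive i j k l hij hkl
        apply Subtype.ext
        rw [← hgi, ← hgj, ← hzact, ← hzact, h3]
      obtain ⟨g, hg⟩ := d.no_fixed ha0.1 ha01
      refine hg ?_
      have h4 := hzact g 4
      have h5 : ((z 4 : d.A) : G) = a0 := hfix _ (movers_apply 4)
      rw [congrArg Subtype.val (hall ((g : Equiv.Perm (Fin 5)) 4) 4), h5] at h4
      exact h4
    have hconst1 : f 1 = 1 := by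
      by_contra hne
      have hinj : Function.Injective f := by
        intro v w h
        have h' : f (v + w) = 1 := by rw [hfadd, h, hsq]
        rcases hker _ h' with h0 | h0
        · exact vec_eq v w h0
        · exact absurd (h0 ▸ h') hne
      have := Nat.card_le_card_of_injective f hinj
      rw [d.card_A, Nat.card_eq_fintype_card] at this
      norm_num at this
    have hsurj : Function.Surjective f := by
      let r : {w : Vec // w 4 = 0} → d.A := fun w => f w.1
      have hr : Function.Injective r := by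
        intro w w' h
        have h0 : f w.1 = f w'.1 := h
        have h' : f (w.1 + w'.1) = 1 := by rw [hfadd, h0, hsq]
        exact Subtype.ext ((normalise w.1).2 w'.1 w.2 w'.2 (hker _ h'))
      have hc : Nat.card {w : Vec // w 4 = 0} = Nat.card d.A := by
        rw [d.card_A, Nat.card_eq_fintype_card, card_half]
      intro a
      obtain ⟨w, hw⟩ := ((Finite.injective_iff_surjective_of_equiv (Finite.card_eq.mp hc).some).mp hr) a
      exact ⟨w.1, hw⟩
    let c : Coord d :=
      { e := fun v => (f v : G)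
        mem := fun v => (f v).2
        add := fun v w => congrArg Subtype.val (hfadd v w)
        surj := fun a ha => by
          obtain ⟨v, hv⟩ := hsurj ⟨a, ha⟩
          exact ⟨v, congrArg Subtype.val hv⟩
        eq_one := fun v => ⟨fun h => hker v (Subtype.ext h), fun h => by
          rcases h with rfl | rfl
          · exact congrArg Subtype.val hf0
          · exact congrArg Subtype.val hconst1⟩
        act_e := hfact }
    refine ⟨c, ?_⟩
    have hcf := c.cent_four
    have hinA : ∀ t ∈ (d.S : Subgroup G), t ≠ 1 → t ∈ d.A →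
        IsConj t (c.e zv) ∨ IsConj t (c.e bv) := by
      intro t _ ht htA
      obtain ⟨n, -, h | h⟩ := c.cover htA ht
      · exact Or.inl (isConj_iff.mpr ⟨n, h⟩).symm
      · exact Or.inr (isConj_iff.mpr ⟨n, h⟩).symm
    obtain ⟨u, hu, hu2, huA⟩ : ∃ u ∈ (d.S : Subgroup G), u * u = 1 ∧ u ∉ d.A := by
      by_contra hno
      push Not at hno
      have := card_classes_le_two (c.e zv) (c.e bv) fun t ht => by
        obtain ⟨t', ht', ht'2, ht'1, hc'⟩ := hconjS t ht
        rcases hinA t' ht' ht'1 (hno t' ht' ht'2) with h | h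
        · exact Or.inl (hc'.trans h)
        · exact Or.inr (hc'.trans h)
      omega
    have hcases : ∀ t : G, orderOf t = 2 →
        IsConj t (c.e zv) ∨ IsConj t (c.e bv) ∨ IsConj t u := by
      intro t ht
      obtain ⟨t', ht', ht'2, ht'1, hc'⟩ := hconjS t ht
      by_cases htA : t' ∈ d.A
      · rcases hinA t' ht' ht'1 htA with h | h
        · exact Or.inl (hc'.trans h)
        · exact Or.inr (Or.inl (hc'.trans h))
      · obtain ⟨n, -, hn⟩ := d.outside_conj hcf ht' ht'2 htA hu hu2 huA
        exact Or.inr (Or.inr (hc'.trans (isConj_iff.mpr ⟨n, hn⟩)))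
    refine ⟨⟨u, hu, hu2, huA, hcf, fun h => ?_, fun h => ?_, fun h => ?_⟩⟩
    · have := card_classes_le_two (c.e bv) u fun t ht => by
        rcases hcases t ht with h1 | h1 | h1
        · exact Or.inl (h1.trans h)
        · exact Or.inl h1
        · exact Or.inr h1
      omega
    · have := card_classes_le_two (c.e bv) u fun t ht => by
        rcases hcases t ht with h1 | h1 | h1
        · exact Or.inr (h1.trans h)
        · exact Or.inl h1
        · exact Or.inr h1
      omega
    · have := card_classes_le_two (c.e zv) u fun t ht => by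
        rcases hcases t ht with h1 | h1 | h1
        · exact Or.inl h1
        · exact Or.inr (h1.trans h)
        · exact Or.inr h1
      omega
  · exfalso
    push Not at hA0
    have hτmem : ∀ a ∈ d.CV, d.act tau a ∈ d.CV := fun a ha => d.act_CV hτ4 ha
    obtain ⟨⟨b, hb⟩, hb1⟩ : ∃ b : d.CV, b ≠ 1 := by
      haveI : Nontrivial d.CV := Finite.one_lt_card_iff_nontrivial.mp d.one_lt_card_CV
      exact exists_ne 1
    have hb1' : b ≠ 1 := fun h => hb1 (Subtype.ext h)
    have e1 : d.act tau b ≠ b := hA0 b hb hb1'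
    have e3 : d.act tau (d.act tau (d.act tau b)) = b := by
      rw [d.act_comp _ _ hb.1, d.act_comp _ _ hb.1, hτ3, d.act_id hb.1]
    have e2 : d.act tau (d.act tau b) ≠ b := fun h => e1 (by rw [h] at e3; exact e3)
    have e12 : d.act tau b ≠ d.act tau (d.act tau b) := fun h => e1 (d.act_injective _ h).symm
    let s : Finset G := {1, b, d.act tau b, d.act tau (d.act tau b)}
    have hscard : s.card = 4 := by
      have n1 : d.act tau b ≠ 1 := fun h => hb1' (d.act_eq_one h)
      have n2 : d.act tau (d.act tau b) ≠ 1 := fun h => n1 (d.act_eq_one h)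
      simp [s, hb1'.symm, n1.symm, n2.symm, e1.symm, e2.symm, e12]
    have hsub : ∀ x ∈ s, x ∈ d.CV := by
      intro x hx
      simp only [s, Finset.mem_insert, Finset.mem_singleton] at hx
      rcases hx with rfl | rfl | rfl | rfl
      exacts [one_mem _, hb, hτmem _ hb, hτmem _ (hτmem _ hb)]
    have hbij : Function.Bijective (fun x : {x // x ∈ s} => (⟨x.1, hsub _ x.2⟩ : d.CV)) := by
      rw [Nat.bijective_iff_injective_and_card]
      refine ⟨fun x y h => Subtype.ext (congrArg Subtype.val h :), le_antisymm ?_ ?_⟩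
      · exact Nat.card_le_card_of_injective (fun x : {x // x ∈ s} => (⟨x.1, hsub _ x.2⟩ : d.CV))
          (fun x y h => Subtype.ext (congrArg Subtype.val h :))
      · rw [Nat.card_eq_fintype_card (α := {x // x ∈ s}), Fintype.card_coe, hscard]
        exact d.card_CV_le_four
    have hc4 : Nat.card d.CV = 4 := by
      rw [← Nat.card_congr (Equiv.ofBijective _ hbij), Nat.card_eq_fintype_card, Fintype.card_coe, hscard]
    have hconjCV : ∀ a ∈ d.CV, a ≠ 1 → IsConj a b := by
      intro a ha ha1
      obtain ⟨⟨x, hx⟩, hxa⟩ := hbij.2 ⟨a, ha⟩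
      have hxa' : x = a := congrArg Subtype.val hxa
      subst hxa'
      simp only [s, Finset.mem_insert, Finset.mem_singleton] at hx
      rcases hx with rfl | rfl | rfl | rfl
      · exact absurd rfl ha1
      · exact IsConj.refl _
      · exact (isConj_iff.mpr ⟨(d.lift tau : G), rfl⟩).symm
      · exact ((isConj_iff.mpr ⟨(d.lift tau : G), rfl⟩ : IsConj b (d.act tau b)).trans
          (isConj_iff.mpr ⟨(d.lift tau : G), rfl⟩)).symm
    have hconjA : ∀ a ∈ d.A, a ≠ 1 → IsConj a b := by
      intro a ha ha1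
      obtain ⟨i, x, hx, hx1, rfl⟩ := d.exists_act_CV hc4 ha ha1
      exact (isConj_iff.mpr ⟨(d.lift (movers i) : G), rfl⟩ : IsConj x _).symm.trans (hconjCV x hx hx1)
    have h4 : ∀ v ∈ Vset, v ≠ 1 → ∀ t : ↥d.N, d.π t = v →
        Nat.card (d.A ⊓ centralizer ({(t : G)} : Set G) : Subgroup G) = 4 := by
      intro v hv hv1 t ht
      have : d.A ⊓ centralizer ({(t : G)} : Set G) = d.CV := by
        ext a
        constructor
        · rintro ⟨ha, hat⟩
          rcases eq_or_ne a 1 with rfl | ha1
          · exact one_mem _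
          obtain ⟨i, x, hx, hx1, rfl⟩ := d.exists_act_CV hc4 ha ha1
          have hfixv : d.act v (d.act (movers i) x) = d.act (movers i) x := by
            have := d.conj_eq_act t (d.act_mem (movers i) hx.1)
            rw [ht] at this
            rw [← this, mul_inv_eq_iff_eq_mul]
            exact (mem_centralizer_singleton_iff.mp hat).symm
          have h4' : ((((movers i)⁻¹ * v) * movers i : A5) : Equiv.Perm (Fin 5)) 4 = 4 := by
            by_contra hne
            refine d.act_not_mem_CV hne hx hx1 ?_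
            rw [← d.act_comp _ _ hx.1, ← d.act_comp _ _ (d.act_mem _ hx.1), hfixv,
              d.act_comp _ _ hx.1, inv_mul_cancel, d.act_id hx.1]
            exact hx
          rw [Subgroup.coe_mul, Subgroup.coe_mul, Subgroup.coe_inv, Equiv.Perm.mul_apply,
            Equiv.Perm.mul_apply, Equiv.Perm.inv_eq_iff_eq] at h4'
          exact d.act_CV (fix_four _ v hv hv1 h4') hx
        · intro ha
          refine ⟨ha.1, mem_centralizer_singleton_iff.mpr ?_⟩
          have := ha.2 v hv
          rw [← ht, ← d.conj_eq_act t ha.1] at this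
          exact (mul_inv_eq_iff_eq_mul.mp this).symm
      rw [this, hc4]
    by_cases hout : ∃ u ∈ (d.S : Subgroup G), u * u = 1 ∧ u ∉ d.A
    · obtain ⟨u, hu, hu2, huA⟩ := hout
      have := card_classes_le_two b u fun t ht => by
        obtain ⟨t', ht', ht'2, ht'1, hc'⟩ := hconjS t ht
        by_cases htA : t' ∈ d.A
        · exact Or.inl (hc'.trans (hconjA t' htA ht'1))
        · obtain ⟨n, -, hn⟩ := d.outside_conj h4 ht' ht'2 htA hu hu2 huA
          exact Or.inr (hc'.trans (isConj_iff.mpr ⟨n, hn⟩))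
      omega
    · push Not at hout
      have := card_classes_le_two b b fun t ht => by
        obtain ⟨t', ht', ht'2, ht'1, hc'⟩ := hconjS t ht
        exact Or.inl (hc'.trans (hconjA t' (hout t' ht' ht'2) ht'1))
      omega

end Data

end Cfsg.Agent.H80.A8Type
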