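import Cfsg.Agent.H80.A8Type.SylowFacts
import Cfsg.Agent.H20.Generation

/-! The centralisers of the involutions other than `z`. -/

set_option autoImplicit false

namespace Cfsg.Agent.H80.A8Type

open Subgroup
open Cfsg.Agent.H74 (oddCoreIn oddCoreIn_le le_normalizer_oddCoreIn odd_card_oddCoreIn le_oddCoreIn)

universe u

theorem single_fixed : ∀ v ∈ Vset, v ≠ 1 → ∀ i : Fin 5,
    ((Pi.single i 1 : Vec) ∘ ⇑((v : Equiv.Perm (Fin 5))⁻¹) + Pi.single i 1 = 0 ∨
      (Pi.single i 1 : Vec) ∘ ⇑((v : Equiv.Perm (Fin 5))⁻¹) + Pi.single i 1 = 1) → i = 4 := by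
  decide +kernel

theorem pair_single : ∀ i j : Fin 5,
    ((Pi.single i 1 : Vec) + bv + Pi.single j 1 = 0 ∨ (Pi.single i 1 : Vec) + bv + Pi.single j 1 = 1) →
      i = 0 ∨ i = 1 := by decide +kernel

theorem z0_facts : (Pi.single 0 1 : Vec) ≠ 0 ∧ (Pi.single 0 1 : Vec) ≠ 1 ∧ zv ≠ 0 ∧ zv ≠ 1 ∧
    bv ≠ 0 ∧ bv ≠ 1 ∧ ¬ ((Pi.single 0 1 : Vec) + bv = 0 ∨ (Pi.single 0 1 : Vec) + bv = 1) ∧
    bv = Pi.single 0 1 + Pi.single 1 1 ∧ (Pi.single 0 1 : Vec) + bv = Pi.single 1 1 ∧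
    bv ∘ ⇑((v1 : Equiv.Perm (Fin 5))⁻¹) = bv ∧
    (Pi.single 0 1 : Vec) ∘ ⇑((v1 : Equiv.Perm (Fin 5))⁻¹) = Pi.single 1 1 ∧
    (Pi.single 1 1 : Vec) ∘ ⇑((v1 : Equiv.Perm (Fin 5))⁻¹) = Pi.single 0 1 := by decide +kernel

variable {G : Type u} [Group G] [Finite G] {d : Data G} {c : Coord d}

namespace Classes

variable (K : Classes d c)
include K

theorem factor_single (hz : Factor (centralizer ({c.e zv} : Set G)) d.N) (i : Fin 5) :
    Factor (centralizer ({c.e (Pi.single i 1)} : Set G)) d.N := by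
  have h := hz.conj (g := (d.lift (movers i) : G)) (d.lift (movers i)).2
  rwa [c.conj_e, d.π_lift, zv, single_comp, movers_apply] at h

theorem centralizer_outside (hz : Factor (centralizer ({c.e zv} : Set G)) d.N) {t : G}
    (ht : t ∈ (d.S : Subgroup G)) (ht2 : orderOf t = 2) (htA : t ∉ d.A) {M : Subgroup G}
    (hM : ∀ a ∈ d.A, a ≠ 1 → centralizer ({a} : Set G) ≤ M) : centralizer ({t} : Set G) ≤ M := by
  haveI := Fact.mk Nat.prime_two
  obtain ⟨hz0, hz1⟩ : zv ≠ 0 ∧ zv ≠ 1 := ⟨z0_facts.2.2.1, z0_facts.2.2.2.1⟩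
  set C := centralizer ({t} : Set G)
  set R : Subgroup G := d.A ⊓ C with hR
  set z := c.e zv
  have htt : t * t = 1 := by rw [← pow_two, ← ht2, pow_orderOf_eq_one]
  have hv := (d.image _).mp ⟨⟨t, d.S_le ht⟩, ht, rfl⟩
  have hv1 : d.π ⟨t, d.S_le ht⟩ ≠ 1 := fun h => htA (d.mem_A_of_π (s := ⟨t, _⟩) ht h)
  have hR4 : Nat.card R = 4 := K.cent_four _ hv hv1 ⟨t, d.S_le ht⟩ rfl
  have hzA : z ∈ d.A := c.mem zv
  have hzC : z ∈ C := mem_centralizer_singleton_iff.mpr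
    (mul_inv_eq_iff_eq_mul.mp (c.z_central ht)).symm
  have hRp : IsPGroup 2 R := d.S.isPGroup'.to_le (inf_le_left.trans d.A_le)
  obtain ⟨T, hT⟩ := (hRp.comap_subtype (K := C)).exists_le_sylow
  have hzT : (⟨z, hzC⟩ : C) ∈ T := hT (show z ∈ R from ⟨hzA, hzC⟩)
  have hzo : orderOf z = 2 := c.orderOf_e hz0 hz1
  have htCC : t ∈ C := mem_centralizer_singleton_iff.mpr rfl
  have hiso : ∀ g : C, g * ⟨z, hzC⟩ * g⁻¹ ∈ T → (g : G) * z * (g : G)⁻¹ = z := by
    intro g hg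
    set y := (g : G) * z * (g : G)⁻¹ with hy
    let T2 : Subgroup G := (T : Subgroup C).map C.subtype ⊔ zpowers t
    have hT2 : IsPGroup 2 T2 := by
      refine IsPGroup.to_sup_of_normal_left' (T.isPGroup'.map _) ?_ (zpowers_le.mpr ?_)
      · exact IsPGroup.of_card (n := 1) (by rw [Nat.card_zpowers, ht2, pow_one])
      · apply Subgroup.mem_normalizer_fintype
        rintro _ ⟨x, hx, rfl⟩
        refine ⟨x, hx, ?_⟩
        have := mem_centralizer_singleton_iff.mp x.2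
        show (x : G) = t * x * t⁻¹
        rw [← this, mul_inv_cancel_right]
    obtain ⟨h, hh⟩ := K.exists_conj_S hT2
    have ht' : h * t * h⁻¹ ∈ (d.S : Subgroup G) := hh t (mem_sup_right (mem_zpowers t))
    have ht'A : h * t * h⁻¹ ∉ d.A := by
      intro hA
      refine htA ?_
      have := K.conj_mem_A hA (g := h⁻¹) (by simpa [mul_assoc] using ht)
      simpa [mul_assoc] using this
    set R' : Subgroup G := d.A ⊓ centralizer ({h * t * h⁻¹} : Set G)
    have hR' : Nat.card R' = 4 := by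
      refine K.cent_four _ ((d.image _).mp ⟨⟨_, d.S_le ht'⟩, ht', rfl⟩) ?_ ⟨_, d.S_le ht'⟩ rfl
      exact fun e => ht'A (d.mem_A_of_π (s := ⟨_, _⟩) ht' e)
    have hmap : R.map (MulAut.conj h).toMonoidHom = R' := by
      refine Subgroup.eq_of_le_of_card_ge ?_ (by rw [H93.card_map_conj, hR4, hR'])
      rintro _ ⟨r, hr, rfl⟩
      refine ⟨K.conj_mem_A hr.1 (hh r (mem_sup_left ⟨⟨r, hr.2⟩, hT hr, rfl⟩)), ?_⟩
      rw [← map_conj_centralizer]
      exact ⟨r, hr.2, rfl⟩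
    have hyC : y ∈ C := mul_mem (mul_mem g.2 hzC) (inv_mem g.2)
    have hyA' : h * y * h⁻¹ ∈ d.A := by
      have h1 : h * y * h⁻¹ ∈ (d.S : Subgroup G) := hh y (mem_sup_left ⟨⟨y, hyC⟩, hg, rfl⟩)
      rw [show h * y * h⁻¹ = (h * g) * z * (h * g)⁻¹ by rw [hy]; group] at h1 ⊢
      exact K.conj_mem_A hzA h1
    have hyR : y ∈ R := by
      have h2 : h * y * h⁻¹ ∈ R' := ⟨hyA', by
        rw [← map_conj_centralizer]; exact ⟨y, hyC, rfl⟩⟩
      rw [← hmap] at h2
      obtain ⟨r, hr, he⟩ := h2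
      exact ((MulAut.conj h).injective he) ▸ hr
    obtain ⟨i, hi⟩ := K.eq_single_of_conj hyR.1 (isConj_iff.mpr ⟨g, rfl⟩)
    have hfix : Commute t (c.e (Pi.single i 1)) := by
      rw [← hi]; exact (mem_centralizer_singleton_iff.mp hyR.2).symm
    have h4 := single_fixed _ hv hv1 i
      (K.par_of_commute (i := ⟨t, d.S_le ht⟩) ht htA hfix).2
    rw [hi, h4]
    rfl
  have hF := factor_centralizer_of_isolated T hzo hzC hzT hiso
  refine hF.le_sup.trans (sup_le ?_ (hM z hzA fun h => by simp [h] at hzo))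
  haveI : IsMulCommutative R :=
    ⟨⟨fun a b => Subtype.ext (d.comm a.2.1 b.2.1)⟩⟩
  have hcyc : ¬ IsCyclic R := by
    intro h
    obtain ⟨g, hg⟩ := h.exists_generator
    have h1 := orderOf_eq_card_of_forall_mem_zpowers hg
    have h2 : orderOf g ∣ 2 := orderOf_dvd_of_pow_eq_one
      (Subtype.ext (by rw [Subgroup.coe_pow, pow_two]; exact d.sq g.2.1))
    rw [h1, hR4] at h2
    norm_num at h2
  refine H20.le_of_centralizers_le hcyc (inf_le_right.trans (le_normalizer_oddCoreIn C)) ?_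
    fun a ha ha1 => inf_le_right.trans (hM a ha.1 ha1)
  rw [hR4]
  exact Nat.Coprime.pow_left 2 (Nat.coprime_two_left.mpr (odd_card_oddCoreIn C))

theorem factor_b (hz : Factor (centralizer ({c.e zv} : Set G)) d.N) :
    Factor (centralizer ({c.e bv} : Set G)) d.N := by
  haveI := Fact.mk Nat.prime_two
  obtain ⟨h00, h01, -, -, hb0, hb1, hnotU, hbv, h0b, hbfix, h10, h11⟩ := z0_facts
  set b := c.e bv with hb
  set C := centralizer ({b} : Set G) with hC
  set z0 := c.e (Pi.single 0 1) with hz0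
  set z1 := c.e (Pi.single 1 1) with hz1
  have hAC : d.A ≤ C := fun a ha => mem_centralizer_singleton_iff.mpr (d.comm ha (c.mem bv))
  have hz0C : z0 ∈ C := hAC (c.mem _)
  have hbC : b ∈ C := hAC (c.mem _)
  let bC : C := ⟨b, hbC⟩
  let U : Subgroup C := zpowers bC
  have hUc : U ≤ center C := zpowers_le.mpr <| mem_center_iff.mpr fun g =>
    Subtype.ext (mem_centralizer_singleton_iff.mp g.2)
  haveI : U.Normal := ⟨fun n hn g => by
    rw [mem_center_iff.mp (hUc hn) g, mul_inv_cancel_right]; exact hn⟩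
  have hbo : orderOf bC = 2 := by rw [← Subgroup.orderOf_coe]; exact c.orderOf_e hb0 hb1
  have hUp : IsPGroup 2 U := IsPGroup.of_card (n := 1) (by rw [Nat.card_zpowers, hbo, pow_one])
  have hAp : IsPGroup 2 (d.A.subgroupOf C) :=
    (d.S.isPGroup'.to_le d.A_le).comap_of_injective _ C.subtype_injective
  obtain ⟨T, hT⟩ := hAp.exists_le_sylow
  have hover := K.over_A (T.isPGroup'.map C.subtype) (fun a ha => ⟨⟨a, hAC ha⟩, hT ha, rfl⟩)
  let q := QuotientGroup.mk' U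
  let TQ : Sylow 2 (C ⧸ U) := T.mapSurjective (QuotientGroup.mk'_surjective U)
  let z0C : C := ⟨z0, hz0C⟩
  have hbT : bC ∈ T := hT (show b ∈ d.A from c.mem _)
  have hUT : U ≤ (T : Subgroup C) := zpowers_le.mpr hbT
  have hUmem : ∀ y : C, y ∈ U → (y : G) = 1 ∨ (y : G) = b := by
    rintro _ ⟨k, rfl⟩
    have hbb : b ^ (2 : ℤ) = 1 := by rw [zpow_two]; exact d.sq (c.mem bv)
    rcases Int.even_or_odd k with ⟨j, rfl⟩ | ⟨j, rfl⟩
    · left
      show ((bC ^ (j + j) : C) : G) = 1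
      rw [Subgroup.coe_zpow, ← two_mul, zpow_mul, hbb, one_zpow]
    · right
      show ((bC ^ (2 * j + 1) : C) : G) = b
      rw [Subgroup.coe_zpow, zpow_add, zpow_mul, hbb, one_zpow, one_mul, zpow_one]
  have hz0o : orderOf z0 = 2 := c.orderOf_e h00 h01
  have hz0U : z0C ∉ U := by
    intro h
    rcases hUmem _ h with h1 | h1
    · rw [show (z0C : G) = z0 from rfl] at h1
      simp [h1] at hz0o
    · exact hnotU (c.e_eq_iff.mp h1)
  have hqo : orderOf (q z0C) = 2 := by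
    refine orderOf_eq_prime ?_ fun h => hz0U ((QuotientGroup.eq_one_iff _).mp h)
    rw [← map_pow, show z0C ^ 2 = 1 from Subtype.ext (by
      rw [Subgroup.coe_pow, pow_two]; exact d.sq (c.mem _)), map_one]
  have hb01 : b = z0 * z1 := by rw [hb, hbv, c.add]
  have hz0b : z0 * b = z1 := by rw [hb01, ← mul_assoc, d.sq (c.mem _), one_mul]
  have hz1b : z1 * b = z0 := by
    rw [hb01, d.comm (c.mem (Pi.single 0 1)) (c.mem (Pi.single 1 1)), ← mul_assoc, d.sq (c.mem _),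
      one_mul]
  have hiso : H28.IsIsolatedInvolution (q z0C) := by
    refine H28.isIsolatedInvolution_of_sylow TQ hqo ?_
    intro gq hgq
    obtain ⟨g, rfl⟩ := QuotientGroup.mk'_surjective U gq
    have hgT : g * z0C * g⁻¹ ∈ T := by
      obtain ⟨x, hx, hxe⟩ := hgq
      have hd : (x⁻¹ * (g * z0C * g⁻¹)) ∈ U := by
        refine (QuotientGroup.eq).mp ?_
        show q x = q _
        rw [map_mul, map_mul, map_inv]; exact hxe
      have h2 := mul_mem (show x ∈ (T : Subgroup C) from hx) (hUT hd)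
      rwa [mul_inv_cancel_left] at h2
    set y := (g : G) * z0 * (g : G)⁻¹ with hy
    have hyA : y ∈ d.A := hover.2 z0 (c.mem _) g ⟨_, hgT, rfl⟩
    have hy' : (g : G) * z1 * (g : G)⁻¹ = y * b := by
      rw [← hz0b, hy]
      have := mem_centralizer_singleton_iff.mp g.2
      calc (g : G) * (z0 * b) * (g : G)⁻¹ = g * z0 * (g : G)⁻¹ * ((g : G) * b * (g : G)⁻¹) := by group
        _ = _ := by rw [this, mul_inv_cancel_right]
    have hzz : ∀ k : Fin 5, IsConj (c.e zv) (c.e (Pi.single k 1)) := fun k =>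
      isConj_iff.mpr ⟨d.lift (movers k), by rw [c.conj_e, d.π_lift, zv, single_comp, movers_apply]⟩
    obtain ⟨i, hi⟩ := K.eq_single_of_conj hyA ((hzz 0).trans (isConj_iff.mpr ⟨g, rfl⟩))
    obtain ⟨j, hj⟩ := K.eq_single_of_conj (mul_mem hyA (c.mem bv))
      ((hzz 1).trans (isConj_iff.mpr ⟨g, hy'⟩))
    rw [hi, ← c.add, c.e_eq_iff] at hj
    rw [← map_inv, ← map_mul, ← map_mul]
    refine (QuotientGroup.eq).mpr ?_
    rcases pair_single i j hj with rfl | rfl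
    · convert U.one_mem using 1
      apply Subtype.ext
      show (y⁻¹ * z0 : G) = 1
      rw [hi, inv_mul_cancel]
    · convert (mem_zpowers bC : bC ∈ U) using 1
      apply Subtype.ext
      show (y⁻¹ * z0 : G) = b
      rw [hi, ← hz1, hb01, inv_eq_of_mul_eq_one_right (d.sq (c.mem (Pi.single 1 1)))]
      exact d.comm (c.mem _) (c.mem _)
  haveI : (Cfsg.oddCore C).Normal := H19.pPrimeCore_normal 2 _
  have hz0p : IsPGroup 2 (zpowers z0C) :=
    IsPGroup.of_card (n := 1) (by rw [Nat.card_zpowers, ← Subgroup.orderOf_coe, hz0o, pow_one])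
  -- the swap
  obtain ⟨s, hsπ⟩ := d.π_surj v1
  have hsC : (s : G) ∈ C := mem_centralizer_singleton_iff.mpr <| mul_inv_eq_iff_eq_mul.mp <| by
    rw [hb, c.conj_e, hsπ, hbfix]
  have hs0 : (s : G) * z0 * (s : G)⁻¹ = z1 := by rw [hz0, c.conj_e, hsπ, h10]
  have hs1 : (s : G) * z1 * (s : G)⁻¹ = z0 := by rw [hz1, c.conj_e, hsπ, h11]
  let sC : C := ⟨s, hsC⟩
  -- `C = O(C) (C ∩ N) C(z0, z1)`
  let C01 : Subgroup G := C ⊓ centralizer ({z0} : Set G)
  have hstep : ∀ g : C, ∃ m ∈ Cfsg.oddCore C, ((m⁻¹ * g : C) : G) ∈ C01 ∨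
      ((s : G)⁻¹ * ((m⁻¹ * g : C) : G)) ∈ C01 := by
    intro g
    have hz := H28.zStar hiso (q g)
    rw [← map_inv, ← map_inv, ← map_mul, ← map_mul, ← map_mul] at hz
    obtain ⟨o, ho, hoe⟩ := oddCore_quotient_le U hUp hUc hz
    have hd : o⁻¹ * (z0C * g * z0C⁻¹ * g⁻¹) ∈ U := (QuotientGroup.eq).mp hoe
    have hz0inv : z0C⁻¹ = z0C := inv_eq_of_mul_eq_one_right (Subtype.ext (d.sq (c.mem _)))
    have hkey : ∀ h : C, h * z0C * h⁻¹ * z0C⁻¹ ∈ Cfsg.oddCore C →
        ∃ m ∈ Cfsg.oddCore C, ((m⁻¹ * h : C) : G) ∈ C01 := by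
      intro h hh
      obtain ⟨m, hm, -, hme⟩ := H93.exists_conj_of_congr (N := Cfsg.oddCore C) (A := ⊥)
        H93.odd_card_oddCore hz0p (by simp [mem_centralizer_iff]) (by simp [mem_centralizer_iff]) hh
      refine ⟨m, hm, (m⁻¹ * h).2, mem_centralizer_singleton_iff.mpr ?_⟩
      have := congrArg Subtype.val hme
      change (m : G) * z0 * (m : G)⁻¹ = h * z0 * (h : G)⁻¹ at this
      show (m : G)⁻¹ * h * z0 = z0 * ((m : G)⁻¹ * h)
      calc (m : G)⁻¹ * h * z0 = (m : G)⁻¹ * (h * z0 * (h : G)⁻¹) * h := by group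
        _ = (m : G)⁻¹ * ((m : G) * z0 * (m : G)⁻¹) * h := by rw [this]
        _ = _ := by group
    rcases hUmem _ hd with h1 | h1
    · -- no swap
      have he : z0C * g * z0C⁻¹ * g⁻¹ = o := (inv_mul_eq_one.mp (Subtype.ext h1)).symm
      obtain ⟨m, hm, hmg⟩ := hkey g (by
        have : g * z0C * g⁻¹ * z0C⁻¹ = z0C⁻¹ * o * z0C := by
          rw [← he]
          calc g * z0C * g⁻¹ * z0C⁻¹ = g * z0C⁻¹ * g⁻¹ * z0C := by rw [hz0inv]
            _ = _ := by group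
        rw [this]
        simpa [hz0inv] using (inferInstance : (Cfsg.oddCore C).Normal).conj_mem o ho z0C⁻¹)
      exact ⟨m, hm, Or.inl hmg⟩
    · have he : z0C * g * z0C⁻¹ * g⁻¹ = o * bC :=
        eq_mul_of_inv_mul_eq (Subtype.ext h1)
      have hsz : sC⁻¹ * (z0C * bC) * sC = z0C := Subtype.ext (by
        show (s : G)⁻¹ * (z0 * b) * s = z0
        rw [hz0b, ← hs0]; group)
      obtain ⟨m, hm, hmg⟩ := hkey (sC⁻¹ * g) (by
        have hbz : bC * z0C = z0C * bC := Subtype.ext (d.comm (c.mem _) (c.mem _))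
        have e1 : g * z0C * g⁻¹ = z0C * o * bC := by
          calc g * z0C * g⁻¹ = z0C⁻¹ * (z0C * g * z0C * g⁻¹) := by group
            _ = z0C * (o * bC) := by rw [← he, hz0inv]
            _ = z0C * o * bC := (mul_assoc _ _ _).symm
        have e2 : sC⁻¹ * g * z0C * (sC⁻¹ * g)⁻¹ * z0C⁻¹ =
            sC⁻¹ * ((z0C * o * z0C⁻¹)) * sC := by
          calc sC⁻¹ * g * z0C * (sC⁻¹ * g)⁻¹ * z0C⁻¹ = sC⁻¹ * (g * z0C * g⁻¹) * sC * z0C⁻¹ := by group
            _ = sC⁻¹ * (z0C * o * bC) * sC * z0C⁻¹ := by rw [e1]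
            _ = (sC⁻¹ * (z0C * o * z0C⁻¹) * sC) * (sC⁻¹ * (z0C * bC) * sC) * z0C⁻¹ := by group
            _ = _ := by rw [hsz, mul_inv_cancel_right]
        rw [e2]
        simpa using (inferInstance : (Cfsg.oddCore C).Normal).conj_mem _
          ((inferInstance : (Cfsg.oddCore C).Normal).conj_mem o ho z0C) sC⁻¹)
      refine ⟨sC * m * sC⁻¹, (inferInstance : (Cfsg.oddCore C).Normal).conj_mem m hm sC, Or.inr ?_⟩
      convert hmg using 1
      show (s : G)⁻¹ * ((((sC * m * sC⁻¹)⁻¹ * g : C)) : G) = ((m⁻¹ * (sC⁻¹ * g) : C) : G)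
      simp only [Subgroup.coe_mul, Subgroup.coe_inv, mul_inv_rev, inv_inv, sC]
      group
  -- `C(z0, b)`
  let H : Subgroup G := C01 ⊔ zpowers (s : G)
  have hHC : H ≤ C := sup_le inf_le_left (zpowers_le.mpr hsC)
  have hFH : Factor C H := by
    intro g hg
    obtain ⟨m, hm, h | h⟩ := hstep ⟨g, hg⟩
    · exact ⟨m, ⟨m, hm, rfl⟩, mem_sup_left h⟩
    · refine ⟨m, ⟨m, hm, rfl⟩, ?_⟩
      have h' := mul_mem (mem_sup_right (mem_zpowers (s : G)) : (s : G) ∈ H) (mem_sup_left h)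
      rwa [mul_inv_cancel_left] at h'
  have hs01 : ∀ x ∈ C01, (s : G) * x * (s : G)⁻¹ ∈ C01 := by
    rintro x ⟨hxC, hx0⟩
    refine Subgroup.mem_inf.mpr ⟨mul_mem (mul_mem hsC hxC) (inv_mem hsC), ?_⟩
    have hb' := mem_centralizer_singleton_iff.mp hxC
    have h0 := mem_centralizer_singleton_iff.mp hx0
    have hx1 : x * z1 = z1 * x := by
      rw [← hz0b, ← mul_assoc, h0, mul_assoc, hb', ← mul_assoc]
    rw [mem_centralizer_singleton_iff, ← hs1]
    calc (s : G) * x * (s : G)⁻¹ * ((s : G) * z1 * (s : G)⁻¹) = s * (x * z1) * (s : G)⁻¹ := by group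
      _ = s * (z1 * x) * (s : G)⁻¹ := by rw [hx1]
      _ = _ := by group
  set Y := oddCoreIn C01 with hY
  have hsY : (C01).map (MulAut.conj (s : G)).toMonoidHom = C01 := by
    refine Subgroup.eq_of_le_of_card_ge ?_ (H93.card_map_conj _ _).ge
    rintro _ ⟨x, hx, rfl⟩; exact hs01 x hx
  have hHY : H ≤ normalizer (Y : Set G) := by
    refine sup_le (le_normalizer_oddCoreIn C01) (zpowers_le.mpr ?_)
    apply Subgroup.mem_normalizer_fintype
    intro y hy
    refine (le_oddCoreIn (N := Y.map (MulAut.conj (s : G)).toMonoidHom) (K := C01) ?_ ?_ ?_)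
      ⟨y, hy, rfl⟩
    · conv_rhs => rw [← hsY]
      exact map_mono (oddCoreIn_le C01)
    · conv_lhs => rw [← hsY]
      exact H93.map_conj_le_normalizer (le_normalizer_oddCoreIn C01)
    · rw [odd_card_map_conj]; exact odd_card_oddCoreIn C01
  have hYO : Y ≤ oddCoreIn C :=
    le_oddCoreIn_of_factor hFH hHC ((oddCoreIn_le C01).trans le_sup_left) hHY (odd_card_oddCoreIn C01)
  have hz0N := K.factor_single hz 0
  have h01 : ∀ x ∈ C01, ∃ o ∈ oddCoreIn C, o⁻¹ * x ∈ d.N := by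
    intro x hx
    obtain ⟨hxb, hx0⟩ := hx
    obtain ⟨o, ho, hn⟩ := hz0N x hx0
    set n := o⁻¹ * x with hn'
    have hoC0 := oddCoreIn_le _ ho
    have hn0 : n ∈ centralizer ({z0} : Set G) := mul_mem (inv_mem hoC0) hx0
    have hA0 : ∀ a ∈ d.A, a ∈ centralizer ({z0} : Set G) := fun a ha =>
      mem_centralizer_singleton_iff.mpr (d.comm ha (c.mem _))
    have hnb : n * b * n⁻¹ = b := by
      set v := n * b * n⁻¹ * b⁻¹ with hv
      have hvA : v ∈ d.A := mul_mem (d.conj_mem hn (c.mem _)) (inv_mem (c.mem _))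
      have hvO : v⁻¹ * (1 : G) ∈ oddCoreIn (centralizer ({z0} : Set G)) := by
        have hx' : x * b * x⁻¹ = b := by rw [mem_centralizer_singleton_iff.mp hxb, mul_inv_cancel_right]
        have h1 := conj_mem_oddCoreIn (hA0 b (c.mem _)) ho
        have h2 := mul_mem h1 (inv_mem ho)
        -- `v⁻¹ = b n b⁻¹ n⁻¹`
        have e : v⁻¹ * 1 = (o⁻¹ * ((b * o * b⁻¹) * o⁻¹)⁻¹ * o) := by
          rw [hv, hn']
          calc (o⁻¹ * x * b * (o⁻¹ * x)⁻¹ * b⁻¹)⁻¹ * 1
              = b * o⁻¹ * (x * b * x⁻¹)⁻¹ * o := by group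
            _ = b * o⁻¹ * b⁻¹ * o := by rw [hx']
            _ = _ := by group
        rw [e]
        simpa using conj_mem_oddCoreIn (inv_mem hoC0) (inv_mem h2)
      have := eq_one_of_congr (hA0 v hvA) (one_mem _) (by rw [pow_two]; exact d.sq hvA) (by simp) hvO
      exact mul_inv_eq_one.mp this
    have hnC : n ∈ C01 := ⟨mem_centralizer_singleton_iff.mpr (mul_inv_eq_iff_eq_mul.mp hnb), hn0⟩
    have hoX : o ∈ oddCoreIn (centralizer ({z0} : Set G)) ⊓ C := by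
      refine Subgroup.mem_inf.mpr ⟨ho, ?_⟩
      have : o = x * n⁻¹ := by rw [hn']; group
      rw [this]
      exact mul_mem hxb (inv_mem hnC.1)
    refine ⟨o, hYO ?_, hn⟩
    refine le_oddCoreIn (N := oddCoreIn (centralizer ({z0} : Set G)) ⊓ C) (K := C01) ?_ ?_ ?_ hoX
    · exact fun y hy => ⟨hy.2, oddCoreIn_le _ hy.1⟩
    · intro g hg
      apply Subgroup.mem_normalizer_fintype
      intro y hy
      exact Subgroup.mem_inf.mpr ⟨conj_mem_oddCoreIn hg.2 hy.1, mul_mem (mul_mem hg.1 hy.2) (inv_mem hg.1)⟩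
    · exact (odd_card_oddCoreIn _).of_dvd_nat (card_dvd_of_le inf_le_left)
  intro g hg
  obtain ⟨m, hm, h | h⟩ := hstep ⟨g, hg⟩
  · obtain ⟨o, ho, hn⟩ := h01 _ h
    refine ⟨(m : G) * o, mul_mem ⟨m, hm, rfl⟩ ho, ?_⟩
    have e : ((m : G) * o)⁻¹ * g = o⁻¹ * ((m : G)⁻¹ * g) := by group
    rw [e]; exact hn
  · obtain ⟨o, ho, hn⟩ := h01 _ h
    refine ⟨(m : G) * ((s : G) * o * (s : G)⁻¹),
      mul_mem ⟨m, hm, rfl⟩ (conj_mem_oddCoreIn hsC ho), ?_⟩
    have e : ((m : G) * ((s : G) * o * (s : G)⁻¹))⁻¹ * g = s * (o⁻¹ * ((s : G)⁻¹ * ((m : G)⁻¹ * g))) := by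
      group
    rw [e]; exact mul_mem s.2 hn

end Classes

end Cfsg.Agent.H80.A8Type
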