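import Cfsg.Agent.H80.A8Type.CentZ
import Cfsg.Agent.H80.A8Type.OtherCent

/-! The main theorem. -/

set_option autoImplicit false

namespace Cfsg.Agent.H80.A8Type

open Subgroup
open Cfsg.Agent.H74 (oddCoreIn)

universe u

theorem sup_oddCore_normal {G : Type u} [Group G] [Finite G] (d : Data G)
    (h3 : Nat.card {c : ConjClasses G // ∃ x ∈ c.carrier, orderOf x = 2} = 3) :
    (d.A ⊔ Cfsg.oddCore G).Normal := by
  obtain ⟨c, ⟨K⟩⟩ := d.exists_classes h3
  have hz := K.factor_z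
  have hb := K.factor_b hz
  have hA : ∀ a ∈ d.A, a ≠ 1 → Factor (centralizer ({a} : Set G)) d.N := by
    intro a ha ha1
    obtain ⟨n, hn, rfl | rfl⟩ := c.cover ha ha1
    · exact hz.conj hn
    · exact hb.conj hn
  obtain ⟨hz0, hz1, hb0, hb1⟩ : zv ≠ 0 ∧ zv ≠ 1 ∧ bv ≠ 0 ∧ bv ≠ 1 :=
    ⟨z0_facts.2.2.1, z0_facts.2.2.2.1, z0_facts.2.2.2.2.1, z0_facts.2.2.2.2.2.1⟩
  have hmain := engine d.S (A := d.A) (N := d.N) d.elem (by rw [d.card_A]; norm_num) d.A_le d.S_le
    (fun x hx => d.mem_normalizer hx)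
    (fun x hx hxc => d.ker_le ⟨x, hx⟩ ((d.cent ⟨x, hx⟩).mp hxc)) hA
    (fun t ht ht2 htA M _ hM => K.centralizer_outside hz ht ht2 htA hM)
    (by
      intro t ht s hs ht2 hs2 hts
      have htt : t * t = 1 := by rw [← pow_two, ← ht2, pow_orderOf_eq_one]
      have hss : s * s = 1 := by rw [← pow_two, ← hs2, pow_orderOf_eq_one]
      have ht1 : t ≠ 1 := fun h => by simp [h] at ht2
      have hs1 : s ≠ 1 := fun h => by simp [h] at hs2
      obtain ⟨g, hg⟩ := isConj_iff.mp hts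
      by_cases htA : t ∈ d.A
      · have hsA : s ∈ d.A := hg ▸ K.conj_mem_A htA (g := g) (hg ▸ hs)
        obtain ⟨m, hm, hm'⟩ := c.cover htA ht1
        obtain ⟨n, hn, hn'⟩ := c.cover hsA hs1
        refine ⟨n * m⁻¹, mul_mem hn (inv_mem hm), ?_⟩
        rcases hm' with hm' | hm' <;> rcases hn' with hn' | hn'
        · rw [← hm', ← hn']; group
        · exact absurd (((isConj_iff.mpr ⟨m, hm'⟩).trans hts).trans (isConj_iff.mpr ⟨n, hn'⟩).symm) K.nzb
        · exact absurd (((isConj_iff.mpr ⟨n, hn'⟩).trans hts.symm).trans (isConj_iff.mpr ⟨m, hm'⟩).symm) K.nzb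
        · rw [← hm', ← hn']; group
      · have hsA : s ∉ d.A := by
          intro hsA
          refine htA ?_
          have := K.conj_mem_A hsA (g := g⁻¹) (by rw [← hg]; simpa [mul_assoc] using ht)
          rw [← hg] at this
          simpa [mul_assoc] using this
        exact d.outside_conj K.cent_four ht htt htA hs hss hsA)
    (c.orderOf_e hz0 hz1) (c.orderOf_e hb0 hb1) K.nzb
  haveI : (Cfsg.oddCore G).Normal := H19.pPrimeCore_normal 2 G
  refine ⟨fun x hx g => ?_⟩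
  obtain ⟨o, ho, hn⟩ := hmain g
  have h1 : o ∈ normalizer ((d.A ⊔ Cfsg.oddCore G : Subgroup G) : Set G) :=
    le_normalizer (mem_sup_right ho)
  have h2 : o⁻¹ * g ∈ normalizer ((d.A ⊔ Cfsg.oddCore G : Subgroup G) : Set G) := by
    apply Subgroup.mem_normalizer_fintype
    intro y hy
    have : (d.A ⊔ Cfsg.oddCore G).map (MulAut.conj (o⁻¹ * g)).toMonoidHom ≤ d.A ⊔ Cfsg.oddCore G := by
      rw [Subgroup.map_sup]
      refine sup_le_sup ?_ ?_
      · rintro _ ⟨a, ha, rfl⟩; exact d.conj_mem hn ha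
      · rintro _ ⟨a, ha, rfl⟩; exact (inferInstance : (Cfsg.oddCore G).Normal).conj_mem a ha _
    exact this ⟨y, hy, rfl⟩
  have h3' := mul_mem h1 h2
  rw [mul_inv_cancel_left] at h3'
  exact (mem_normalizer_iff.mp h3' x).mp hx

end Cfsg.Agent.H80.A8Type
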