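import Cfsg.Agent.H80.A8Type.Basic
import Cfsg.Agent.H80.A8Type.Engine
import Cfsg.Agent.H80.A8Type.Five
import Cfsg.Agent.H80.A8Type.EightSub
import Cfsg.Agent.H80.A8Type.Data

/-! The data of `A`: a Sylow `2`-subgroup inside `N(A)` over the four-group, and `C(A) = A O(N(A))`. -/

set_option autoImplicit false

namespace Cfsg.Agent.H80.A8Type

open Subgroup
open scoped Pointwise
open Cfsg.Agent.H74 (oddCoreIn oddCoreIn_le le_normalizer_oddCoreIn odd_card_oddCoreIn le_oddCoreIn)

universe u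

theorem card_A5_setup : Nat.card A5 = 60 := by
  rw [nat_card_alternatingGroup, Nat.card_fin]
  decide

theorem card_A8_setup : Nat.card A8 = 20160 := by
  rw [nat_card_alternatingGroup, Nat.card_fin]
  decide

theorem card_sylow_A8 (P : Sylow 2 A8) : Nat.card ↥(P : Subgroup A8) = 64 := by
  haveI := Fact.mk Nat.prime_two
  obtain ⟨k, hk⟩ := P.isPGroup'.exists_card_eq
  have hm := (P : Subgroup A8).card_mul_index
  rw [card_A8_setup, hk] at hm
  have hidx : ¬ 2 ∣ (P : Subgroup A8).index := P.not_dvd_index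
  have hk15 : k < 15 := by
    by_contra hlt
    have h15 : 2 ^ 15 ≤ 2 ^ k := Nat.pow_le_pow_right (by norm_num) (Nat.le_of_not_lt hlt)
    have hd : 2 ^ k ∣ 20160 := ⟨_, hm.symm⟩
    have := Nat.le_of_dvd (by norm_num) hd
    omega
  rw [hk]
  interval_cases k <;> norm_num at hm ⊢ <;> omega

/-- A Sylow `2`-subgroup of `A₈` contains `x, y, y'` with distinct non-trivial `[x, y]`, `[x, y']`. -/
theorem exists_commutators (P : Sylow 2 A8) :
    ∃ x ∈ (P : Subgroup A8), ∃ y ∈ (P : Subgroup A8), ∃ y' ∈ (P : Subgroup A8),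
      x * y ≠ y * x ∧ x * y' ≠ y' * x ∧ x * y * x⁻¹ * y⁻¹ ≠ x * y' * x⁻¹ * y'⁻¹ := by
  haveI := Fact.mk Nat.prime_two
  obtain ⟨c2, c'2, y2, y'2, x2, hc'c, hyc, hyc', hy'c, hy'c', hy'y, hxc, hxc', hxy, hxy'⟩ := qrel
  have inv_of : ∀ {g : A8}, g * g = 1 → g⁻¹ = g := fun hg => inv_eq_of_mul_eq_one_right hg
  -- an involution commuting with the generators normalises what they generate
  have norm_of : ∀ {g : A8} {H : Subgroup A8}, g * g = 1 → (∀ h ∈ H, g * h * g⁻¹ ∈ H) →
      g ∈ normalizer (H : Set A8) := by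
    intro g H hg h
    refine mem_normalizer_iff.mpr fun w => ⟨h w, fun hw => ?_⟩
    have := h _ hw
    rwa [inv_of hg, show g * (g * w * g) * g = (g * g) * w * (g * g) by group, hg, one_mul, mul_one] at this
  have conj_cl : ∀ {g : A8} {S : Set A8}, (∀ s ∈ S, g * s * g⁻¹ ∈ closure S) →
      ∀ h ∈ closure S, g * h * g⁻¹ ∈ closure S := by
    intro g S hS h hh
    induction hh using closure_induction with
    | mem s hs => exact hS s hs
    | one => simp [one_mem]
    | mul a b _ _ iha ihb => have := mul_mem iha ihb; simpa [mul_assoc] using this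
    | inv a _ iha => have := inv_mem iha; simpa [mul_assoc] using this
  have fix : ∀ {g s : A8}, g * s = s * g → g * s * g⁻¹ = s := fun h => by rw [h, mul_inv_cancel_right]
  have h0 : IsPGroup 2 (zpowers qc) := by
    have := isPGroup_step (IsPGroup.of_bot : IsPGroup 2 (⊥ : Subgroup A8)) c2
      (norm_of c2 (fun h hh => by rw [mem_bot.mp hh]; simp))
    rwa [bot_sup_eq] at this
  have e0 : zpowers qc = closure ({qc} : Set A8) := zpowers_eq_closure qc
  have e1 : zpowers qc ⊔ zpowers qc' = closure ({qc, qc'} : Set A8) := by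
    rw [zpowers_eq_closure, zpowers_eq_closure, ← Subgroup.closure_union, Set.singleton_union]
  have h1 : IsPGroup 2 (zpowers qc ⊔ zpowers qc' : Subgroup A8) := by
    refine isPGroup_step h0 c'2 (norm_of c'2 ?_)
    rw [e0]
    refine conj_cl ?_
    rintro s rfl
    rw [fix hc'c]
    exact subset_closure rfl
  have h2 : IsPGroup 2 (closure ({qc, qc', qy} : Set A8)) := by
    have e : closure ({qc, qc', qy} : Set A8) = closure ({qc, qc'} : Set A8) ⊔ zpowers qy := by
      rw [zpowers_eq_closure, ← Subgroup.closure_union]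
      congr 1
      ext; simp [or_assoc, or_comm, or_left_comm]
    rw [e, ← e1]
    refine isPGroup_step h1 y2 (norm_of y2 ?_)
    rw [e1]
    refine conj_cl ?_
    rintro s (rfl | rfl)
    · rw [fix hyc]; exact subset_closure (by simp)
    · rw [fix hyc']; exact subset_closure (by simp)
  have h3 : IsPGroup 2 (closure ({qc, qc', qy, qy'} : Set A8)) := by
    have e : closure ({qc, qc', qy, qy'} : Set A8) = closure ({qc, qc', qy} : Set A8) ⊔ zpowers qy' := by
      rw [zpowers_eq_closure, ← Subgroup.closure_union]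
      congr 1
      ext; simp [or_assoc, or_comm, or_left_comm]
    rw [e]
    refine isPGroup_step h2 y'2 (norm_of y'2 (conj_cl ?_))
    rintro s (rfl | rfl | rfl)
    · rw [fix hy'c]; exact subset_closure (by simp)
    · rw [fix hy'c']; exact subset_closure (by simp)
    · rw [fix hy'y]; exact subset_closure (by simp)
  have h4 : IsPGroup 2 (closure ({qc, qc', qy, qy'} : Set A8) ⊔ zpowers qx : Subgroup A8) := by
    refine isPGroup_step h3 x2 (norm_of x2 (conj_cl ?_))
    rintro s (rfl | rfl | rfl | rfl)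
    · rw [fix hxc]; exact subset_closure (by simp)
    · rw [fix hxc']; exact subset_closure (by simp)
    · rw [inv_of x2, hxy]; exact mul_mem (subset_closure (by simp)) (subset_closure (by simp))
    · rw [inv_of x2, hxy']; exact mul_mem (subset_closure (by simp)) (subset_closure (by simp))
  obtain ⟨R, hR⟩ := h4.exists_le_sylow
  obtain ⟨g, hg⟩ := MulAction.exists_smul_eq A8 R P
  have hmem : ∀ {q : A8}, q ∈ (R : Subgroup A8) → g * q * g⁻¹ ∈ (P : Subgroup A8) := by
    intro q hq
    rw [← hg]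
    exact Subgroup.smul_mem_pointwise_smul q (MulAut.conj g) (R : Subgroup A8) hq
  obtain ⟨q1, q2, q3⟩ := qcomm
  refine ⟨g * qx * g⁻¹, hmem (hR (mem_sup_right (mem_zpowers _))),
    g * qy * g⁻¹, hmem (hR (mem_sup_left (subset_closure (by simp)))),
    g * qy' * g⁻¹, hmem (hR (mem_sup_left (subset_closure (by simp)))), ?_, ?_, ?_⟩
  · intro h; rw [conj_mul, conj_mul] at h; exact q1 (mul_left_cancel (mul_right_cancel h))
  · intro h; rw [conj_mul, conj_mul] at h; exact q2 (mul_left_cancel (mul_right_cancel h))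
  · intro h
    rw [conj_inv, conj_inv, conj_inv, conj_mul, conj_mul, conj_mul, conj_mul, conj_mul, conj_mul] at h
    exact q3 (mul_left_cancel (mul_right_cancel h))

/-- A group with a central subgroup whose quotient is a four-group has at most one non-trivial commutator
`[x, -]` for each `x`. -/
theorem commutator_unique {S : Type*} [Group S] (f : S →* A5) (hf : ∀ s, f s ∈ Vset)
    (hker : ∀ k, f k = 1 → ∀ s, k * s = s * k) {x y y' : S} (h1 : x * y ≠ y * x) (h2 : x * y' ≠ y' * x) :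
    x * y * x⁻¹ * y⁻¹ = x * y' * x⁻¹ * y'⁻¹ := by
  have dec : ∀ {s t : S}, f s = f t → ∃ k, (∀ w, k * w = w * k) ∧ t = s * k := by
    intro s t h
    exact ⟨s⁻¹ * t, hker _ (by rw [map_mul, map_inv, h, inv_mul_cancel]), by group⟩
  have hx : f x ≠ 1 := fun h => h1 (hker x h y)
  have hy : f y ≠ 1 := fun h => h1 ((hker y h x).symm)
  have hy' : f y' ≠ 1 := fun h => h2 ((hker y' h x).symm)
  have hne : ∀ {t : S}, x * t ≠ t * x → f t ≠ f x := by
    intro t ht he
    obtain ⟨k, hk, rfl⟩ := dec he.symm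
    apply ht
    rw [mul_assoc x k x, hk x]
  rcases four_cases (f x) (hf x) (f y) (hf y) (f y') (hf y') hx hy (fun e => hne h1 e.symm) hy' (hne h2)
    with e | e
  · obtain ⟨k, hk, rfl⟩ := dec e.symm
    symm
    calc x * (y * k) * x⁻¹ * (y * k)⁻¹ = x * y * (k * x⁻¹) * k⁻¹ * y⁻¹ := by group
      _ = x * y * (x⁻¹ * k) * k⁻¹ * y⁻¹ := by rw [hk]
      _ = x * y * x⁻¹ * y⁻¹ := by group
  · obtain ⟨k, hk, rfl⟩ := dec (s := x * y) (t := y') (by rw [map_mul, e])
    have hc : f (x * y * x⁻¹ * y⁻¹) = 1 := by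
      have hab : ∀ a ∈ Vset, ∀ b ∈ Vset, a * b * a⁻¹ * b⁻¹ = 1 := by decide +kernel
      rw [map_mul, map_mul, map_mul, map_inv, map_inv]
      exact hab _ (hf x) _ (hf y)
    symm
    calc x * (x * y * k) * x⁻¹ * (x * y * k)⁻¹ = x * x * y * (k * x⁻¹) * k⁻¹ * y⁻¹ * x⁻¹ := by group
      _ = x * x * y * (x⁻¹ * k) * k⁻¹ * y⁻¹ * x⁻¹ := by rw [hk]
      _ = x * (x * y * x⁻¹ * y⁻¹) * x⁻¹ := by group
      _ = x * y * x⁻¹ * y⁻¹ := by rw [← hker _ hc x, mul_inv_cancel_right]

variable {G : Type u} [Group G] [Finite G]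

theorem exists_data (S : Sylow 2 G) (P : Sylow 2 ↥(alternatingGroup (Fin 8)))
    (hS : Nonempty (↥(S : Subgroup G) ≃* ↥(P : Subgroup ↥(alternatingGroup (Fin 8)))))
    (A : Subgroup G) (hA : Cfsg.IsElementaryAbelian 2 A) (hA16 : Nat.card ↥A = 16)
    (N : Subgroup G) (hN : N = Subgroup.normalizer (A : Set G))
    (hNA : ∃ (_ : (A.subgroupOf N ⊔ Cfsg.oddCore ↥N).Normal),
      Nonempty (↥N ⧸ (A.subgroupOf N ⊔ Cfsg.oddCore ↥N) ≃* ↥(alternatingGroup (Fin 5)))) :
    ∃ d : Data G, d.A = A := by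
  classical
  haveI := Fact.mk Nat.prime_two
  obtain ⟨hKn, ⟨iso⟩⟩ := hNA
  obtain ⟨e⟩ := hS
  set K := A.subgroupOf N ⊔ Cfsg.oddCore ↥N with hK
  haveI := hKn
  let π : ↥N →* A5 := iso.toMonoidHom.comp (QuotientGroup.mk' K)
  have πsurj : Function.Surjective π := iso.surjective.comp (QuotientGroup.mk'_surjective K)
  have πker : ∀ x : ↥N, π x = 1 ↔ x ∈ K := fun x => by
    show iso (QuotientGroup.mk' K x) = 1 ↔ _
    rw [MulEquiv.map_eq_one_iff, QuotientGroup.mk'_apply, QuotientGroup.eq_one_iff]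
  have hAN : A ≤ N := hN ▸ le_normalizer
  have hKG : ∀ x : ↥N, x ∈ K ↔ (x : G) ∈ A ⊔ oddCoreIn N := by
    intro x
    have h : K.map N.subtype = A ⊔ oddCoreIn N := by
      rw [hK, Subgroup.map_sup, map_subgroupOf_eq_of_le hAN]
      rfl
    rw [← h]
    exact ⟨fun hx => ⟨x, hx, rfl⟩, fun ⟨y, hy, hyx⟩ => Subtype.ext hyx ▸ hy⟩
  haveI hAn : (A.subgroupOf N).Normal :=
    (normal_subgroupOf_iff_le_normalizer hAN).mpr (le_of_eq hN)
  have hA2 : IsPGroup 2 A := IsPGroup.of_card (n := 4) (by rw [hA16]; norm_num)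
  have hAN2 : IsPGroup 2 (A.subgroupOf N) := hA2.of_equiv (subgroupOfEquivOfLe hAN).symm
  have hcomm : ∀ a ∈ A, ∀ b ∈ A, a * b = b * a := fun a ha b hb => by
    haveI := hA.1
    exact setLike_mul_comm ha hb
  -- `O(N)` centralises `A`
  have hON : ∀ d ∈ oddCoreIn N, ∀ a ∈ A, d * a = a * d := by
    intro d hd a ha
    have h1 : d * a * d⁻¹ * a⁻¹ ∈ A :=
      mul_mem ((mem_normalizer_iff.mp (hN ▸ oddCoreIn_le N hd : d ∈ normalizer (A : Set G)) a).mp ha)
        (inv_mem ha)
    have h2 : d * a * d⁻¹ * a⁻¹ ∈ oddCoreIn N := by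
      have h := conj_mem_oddCoreIn (hAN ha) (inv_mem hd)
      have := mul_mem hd h
      simpa [mul_assoc] using this
    have h3 : d * a * d⁻¹ * a⁻¹ = 1 := H93.eq_one_of_two_odd hA2 (odd_card_oddCoreIn N) h1 h2
    exact mul_inv_eq_iff_eq_mul.mp (mul_inv_eq_one.mp h3)
  -- orders
  have hS64 : Nat.card ↥(S : Subgroup G) = 64 := by
    rw [Nat.card_congr e.toEquiv]; exact card_sylow_A8 P
  have hN64 : 64 ∣ Nat.card N := by
    have h1 := K.card_eq_card_quotient_mul_card_subgroup
    rw [Nat.card_congr iso.toEquiv, card_A5_setup] at h1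
    have h2 : 16 ∣ Nat.card K := by
      have := Subgroup.card_dvd_of_le (le_sup_left : A.subgroupOf N ≤ K)
      rwa [Nat.card_congr (subgroupOfEquivOfLe hAN).toEquiv, hA16] at this
    rw [h1]
    exact (show (64 : ℕ) ∣ 4 * 16 by norm_num).trans (mul_dvd_mul (by norm_num) h2)
  -- a Sylow subgroup of `N` over the four-group
  have hV2 : IsPGroup 2 Vgrp := IsPGroup.of_card (n := 2) (by rw [card_Vgrp]; norm_num)
  let VS : Sylow 2 A5 := hV2.toSylow (by rw [index_Vgrp]; norm_num)
  obtain ⟨T0⟩ := (inferInstance : Nonempty (Sylow 2 ↥N))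
  obtain ⟨g, hg⟩ := MulAction.exists_smul_eq A5 (T0.mapSurjective πsurj) VS
  obtain ⟨n, rfl⟩ := πsurj g
  set T := n • T0 with hTdef
  have hTimg : (T : Subgroup ↥N).map π = Vgrp := by
    have h := congrArg (fun Q : Sylow 2 A5 => (Q : Subgroup A5)) hg
    simp only [Sylow.coe_subgroup_smul, Sylow.coe_mapSurjective] at h
    change MulAut.conj (π n) • (T0 : Subgroup ↥N).map π = Vgrp at h
    rw [← h, hTdef, Sylow.coe_subgroup_smul]
    ext w
    simp only [mem_map, mem_pointwise_smul_iff_inv_smul_mem, MulAut.smul_def, ← map_inv,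
      MulAut.conj_apply, inv_inv]
    constructor
    · rintro ⟨x, hx, rfl⟩
      exact ⟨n⁻¹ * x * n, hx, by simp [mul_assoc]⟩
    · rintro ⟨x, hx, hxw⟩
      refine ⟨n * x * n⁻¹, by simpa [mul_assoc] using hx, ?_⟩
      rw [map_mul, map_mul, hxw, map_inv]
      group
  have hTcard : Nat.card ↥((T : Subgroup ↥N).map N.subtype) = 64 := by
    have h1 : Nat.card ↥((T : Subgroup ↥N).map N.subtype) = Nat.card (T : Subgroup ↥N) :=
      (Nat.card_congr ((T : Subgroup ↥N).equivMapOfInjective _ N.subtype_injective).toEquiv).symm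
    have h2 : 64 ∣ Nat.card (T : Subgroup ↥N) := by
      rw [T.card_eq_multiplicity, show (64 : ℕ) = 2 ^ 6 by norm_num]
      exact Nat.pow_dvd_pow 2 ((Nat.prime_two.pow_dvd_iff_le_factorization Nat.card_pos.ne').mp
        (by norm_num; exact hN64))
    obtain ⟨R, hR⟩ := (T.isPGroup'.map N.subtype).exists_le_sylow
    have h3 := Nat.card_le_card_of_injective _ (inclusion_injective hR)
    rw [R.card_eq_multiplicity, ← S.card_eq_multiplicity, hS64, h1] at h3
    rw [h1]
    exact le_antisymm h3 (Nat.le_of_dvd Nat.card_pos h2)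
  obtain ⟨R, hR⟩ := (T.isPGroup'.map N.subtype).exists_le_sylow
  have hRT : (R : Subgroup G) = (T : Subgroup ↥N).map N.subtype :=
    (Subgroup.eq_of_le_of_card_ge hR (by rw [hTcard, R.card_eq_multiplicity, ← S.card_eq_multiplicity, hS64])).symm
  have hmemR : ∀ s : ↥N, (s : G) ∈ (R : Subgroup G) ↔ s ∈ (T : Subgroup ↥N) := by
    intro s
    rw [hRT]
    exact ⟨fun ⟨y, hy, hys⟩ => Subtype.ext hys ▸ hy, fun hs => ⟨s, hs, rfl⟩⟩
  have hRN : (R : Subgroup G) ≤ N := by rw [hRT]; exact map_subtype_le _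
  have hAR : A ≤ (R : Subgroup G) := by
    intro a ha
    refine (hmemR ⟨a, hAN ha⟩).mpr ?_
    obtain ⟨Q, hQ⟩ := hAN2.exists_le_sylow
    obtain ⟨m, hm⟩ := MulAction.exists_smul_eq ↥N Q T
    rw [← hm]
    show _ ∈ MulAut.conj m • (Q : Subgroup ↥N)
    rw [mem_pointwise_smul_iff_inv_smul_mem]
    exact hQ (by simpa [MulAut.smul_def] using hAn.conj_mem ⟨a, hAN ha⟩ ha m⁻¹)
  -- `A` is the part of the Sylow subgroup over `1`
  have hkerR : ∀ s : ↥N, (s : G) ∈ (R : Subgroup G) → π s = 1 → (s : G) ∈ A := by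
    intro s hs h1
    have h2 := (πker s).mp h1
    rw [hK] at h2
    obtain ⟨a, ha, o, ho, rfl⟩ := Subgroup.mem_sup_of_normal_left.mp h2
    have hoR : (o : G) ∈ (R : Subgroup G) := by
      have := mul_mem (inv_mem (hAR (mem_subgroupOf.mp ha))) hs
      simpa using this
    have hoO : (o : G) ∈ oddCoreIn N := ⟨o, ho, rfl⟩
    have ho1 : (o : G) = 1 := H74.eq_one_of_odd_of_mem R.isPGroup'
      (H74.odd_orderOf_of_mem (odd_card_oddCoreIn N) hoO) hoR
    simpa [ho1] using mem_subgroupOf.mp ha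
  have hle : ∀ x : ↥N, π x = 1 → (x : G) ∈ centralizer (A : Set G) := by
    intro x hx
    have h1 : A ⊔ oddCoreIn N ≤ centralizer (A : Set G) := by
      refine sup_le (fun a ha => ?_) (fun d hd => ?_)
      · exact mem_centralizer_iff.mpr fun b hb => hcomm b hb a ha
      · exact mem_centralizer_iff.mpr fun b hb => (hON d hd b hb).symm
    exact h1 ((hKG x).mp ((πker x).mp hx))
  have hcent : ∀ x : ↥N, (x : G) ∈ centralizer (A : Set G) → π x = 1 := by
    let C : Subgroup ↥N := (centralizer (A : Set G)).subgroupOf N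
    have hCn : C.Normal := by
      refine ⟨fun c hc m => mem_subgroupOf.mpr (mem_centralizer_iff.mpr fun a ha => ?_)⟩
      have hm : ((m : G))⁻¹ * a * (m : G) ∈ A := by
        have h := (mem_normalizer_iff.mp (hN ▸ inv_mem m.2 : (m : G)⁻¹ ∈ normalizer (A : Set G)) a).mp ha
        simpa using h
      have h2 := mem_centralizer_iff.mp (mem_subgroupOf.mp hc) _ hm
      push_cast
      calc a * ((m : G) * c * (m : G)⁻¹) = (m : G) * (((m : G)⁻¹ * a * (m : G)) * c) * (m : G)⁻¹ := by group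
        _ = (m : G) * ((c : G) * ((m : G)⁻¹ * a * (m : G))) * (m : G)⁻¹ := by rw [h2]
        _ = (m : G) * c * (m : G)⁻¹ * a := by group
    haveI := alternatingGroup.isSimpleGroup (α := Fin 5) (by simp)
    rcases (hCn.map π πsurj).eq_bot_or_eq_top with h | h
    · intro x hx
      exact mem_bot.mp (h ▸ ⟨x, hx, rfl⟩)
    · exfalso
      have hall : ∀ s : ↥N, (s : G) ∈ centralizer (A : Set G) := by
        intro s
        obtain ⟨c, hc, hcs⟩ : π s ∈ C.map π := h ▸ mem_top _
        have h1 := hle (c⁻¹ * s) (by rw [map_mul, map_inv, hcs, inv_mul_cancel])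
        have := mul_mem (mem_subgroupOf.mp hc) h1
        simpa using this
      -- transport three elements of `A₈`
      obtain ⟨x, hx, y, hy, y', hy', q1, q2, q3⟩ := exists_commutators P
      obtain ⟨k, hk⟩ := MulAction.exists_smul_eq G S R
      let c : ↥(S : Subgroup G) ≃* ↥(R : Subgroup G) :=
        ((S : Subgroup G).equivSMul (MulAut.conj k)).trans
          (MulEquiv.subgroupCongr (by rw [← hk]; rfl))
      let w := e.symm.trans c
      let f : ↥(R : Subgroup G) →* A5 := π.comp (Subgroup.inclusion hRN)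
      have hf : ∀ s, f s ∈ Vset := fun s => by
        have : f s ∈ (T : Subgroup ↥N).map π := ⟨_, (hmemR _).mp s.2, rfl⟩
        rw [hTimg] at this
        exact this
      have hker : ∀ s, f s = 1 → ∀ t : ↥(R : Subgroup G), s * t = t * s := fun s hs t => Subtype.ext
        (mem_centralizer_iff.mp (hall ⟨t, hRN t.2⟩) _ (hkerR _ s.2 hs))
      refine q3 ?_
      have := commutator_unique f hf hker (x := w ⟨x, hx⟩) (y := w ⟨y, hy⟩) (y' := w ⟨y', hy'⟩)
        (fun h => q1 (congrArg Subtype.val (w.injective ((map_mul w _ _).trans (h.trans (map_mul w _ _).symm)))))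
        (fun h => q2 (congrArg Subtype.val (w.injective ((map_mul w _ _).trans (h.trans (map_mul w _ _).symm)))))
      rw [← map_inv, ← map_inv, ← map_inv, ← map_mul, ← map_mul, ← map_mul, ← map_mul, ← map_mul,
        ← map_mul] at this
      exact congrArg Subtype.val (w.injective this)
  refine ⟨{ A := A, N := N, S := R, π := π, N_eq := hN, elem := hA, card_A := hA16, A_le := hAR,
            S_le := hRN, π_surj := πsurj,
            ker_le := fun x hx => (hKG x).mp ((πker x).mp hx),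
            le_ker := fun x hx => (πker x).mpr ((hKG x).mpr hx),
            cent := fun x => ⟨hcent x, hle x⟩,
            image := fun v => ?_ }, rfl⟩
  rw [← mem_Vgrp, ← hTimg, mem_map]
  exact ⟨fun ⟨s, hs, hv⟩ => ⟨s, (hmemR s).mp hs, hv⟩, fun ⟨s, hs, hv⟩ => ⟨s, (hmemR s).mpr hs, hv⟩⟩

end Cfsg.Agent.H80.A8Type
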