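import Cfsg.Agent.H80.A8Type.Classes

/-! Fusion facts from the three classes, and the subgroup `T₁` of index two of `S`. -/

set_option autoImplicit false

namespace Cfsg.Agent.H80.A8Type

open Subgroup

universe u

/-- The parity of the first four coordinates. -/
def par (w : Vec) : ZMod 2 := w 0 + w 1 + w 2 + w 3

theorem par_add : ∀ v w : Vec, par (v + w) = par v + par w := by
  intro v w; simp only [par, Pi.add_apply]; ring

theorem par_facts : ∀ v ∈ Vset, ∀ w : Vec,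
    par (w ∘ ⇑((v : Equiv.Perm (Fin 5))⁻¹)) = par w ∧
    ((w ∘ ⇑((v : Equiv.Perm (Fin 5))⁻¹) + w = 0 ∨ w ∘ ⇑((v : Equiv.Perm (Fin 5))⁻¹) + w = 1) →
      v ≠ 1 → par w = 0) ∧
    (par w = 0 → w ∘ ⇑((v : Equiv.Perm (Fin 5))⁻¹) + w ∈ ({0, 1, zv, zv + 1} : Finset Vec)) ∧
    (v ≠ 1 → w ∘ ⇑((v : Equiv.Perm (Fin 5))⁻¹) + w ∈ ({0, 1, zv, zv + 1} : Finset Vec) → par w = 0) := by
  decide +kernel

theorem par_tau : ∀ v ∈ Vset, ∀ w : Vec,
    par (w ∘ ⇑((v * tau : A5) : Equiv.Perm (Fin 5))⁻¹) = par w ∧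
    (par w = 0 → w ∘ ⇑((v * tau : A5) : Equiv.Perm (Fin 5))⁻¹ + w ∈ ({0, 1, zv, zv + 1} : Finset Vec) →
      w ∈ ({0, 1, zv, zv + 1} : Finset Vec)) := by
  decide +kernel

theorem two_fixed : ∀ v ∈ Vset, ∀ v' ∈ Vset, v ≠ 1 → v' ≠ 1 → v ≠ v' → ∀ w : Vec,
    (w ∘ ⇑((v : Equiv.Perm (Fin 5))⁻¹) + w = 0 ∨ w ∘ ⇑((v : Equiv.Perm (Fin 5))⁻¹) + w = 1) →
    (w ∘ ⇑((v' : Equiv.Perm (Fin 5))⁻¹) + w = 0 ∨ w ∘ ⇑((v' : Equiv.Perm (Fin 5))⁻¹) + w = 1) →
      w ∈ ({0, 1, zv, zv + 1} : Finset Vec) := by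
  decide +kernel

theorem vset_mul : ∀ a ∈ Vset, ∀ b ∈ Vset, a * b ∈ Vset ∧ a * b = b * a ∧ a * a = 1 ∧
    a * b * a = b ∧ ((a * b = 1) → a = b) := by decide +kernel

theorem vset_fix_zv : ∀ v ∈ Vset, zv ∘ ⇑((v : Equiv.Perm (Fin 5))⁻¹) = zv := by decide +kernel

variable {G : Type u} [Group G] [Finite G] {d : Data G} {c : Coord d}

theorem Coord.mem_z_powers {w : Vec} (h : w ∈ ({0, 1, zv, zv + 1} : Finset Vec)) :
    c.e w ∈ zpowers (c.e zv) := by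
  have h1 : c.e 1 = 1 := (c.eq_one 1).mpr (Or.inr rfl)
  simp only [Finset.mem_insert, Finset.mem_singleton] at h
  rcases h with rfl | rfl | rfl | rfl
  · rw [c.e_zero]; exact one_mem _
  · rw [h1]; exact one_mem _
  · exact mem_zpowers _
  · rw [c.add, h1, mul_one]; exact mem_zpowers _

theorem Coord.mem_set_of_z_powers {w : Vec} (h : c.e w ∈ zpowers (c.e zv)) :
    w ∈ ({0, 1, zv, zv + 1} : Finset Vec) := by
  have h2 : ∀ k : ℤ, c.e zv ^ k = 1 ∨ c.e zv ^ k = c.e zv := fun k => by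
    rcases Int.even_or_odd k with ⟨j, rfl⟩ | ⟨j, rfl⟩
    · left; rw [← two_mul, zpow_mul, zpow_two, d.sq (c.mem zv), one_zpow]
    · right; rw [zpow_add, zpow_mul, zpow_two, d.sq (c.mem zv), one_zpow, one_mul, zpow_one]
  obtain ⟨k, hk⟩ := h
  simp only [Finset.mem_insert, Finset.mem_singleton]
  rcases h2 k with h' | h' <;> rw [show c.e zv ^ k = c.e w from hk] at h'
  · rcases (c.eq_one w).mp h' with rfl | rfl <;> simp
  · rcases c.e_eq_iff.mp h' with h'' | h''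
    · exact Or.inr (Or.inr (Or.inl (vec_eq _ _ h'')))
    · refine Or.inr (Or.inr (Or.inr ((by decide +kernel : ∀ w : Vec, w + zv = 1 → w = zv + 1) w h'')))

theorem Coord.card_S (_c : Coord d) : Nat.card (d.S : Subgroup G) = 64 := by
  let f : (d.S : Subgroup G) →* A5 := d.π.comp (inclusion d.S_le)
  have hr : f.range = Vgrp := by
    ext v
    rw [mem_Vgrp, ← d.image v]
    exact ⟨fun ⟨s, hs⟩ => ⟨⟨s, d.S_le s.2⟩, s.2, hs⟩,
      fun ⟨s, hs, he⟩ => ⟨⟨s, hs⟩, he⟩⟩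
  have hk : f.ker = d.A.subgroupOf (d.S : Subgroup G) := by
    ext s
    exact ⟨fun h => d.mem_A_of_π (s := ⟨s, d.S_le s.2⟩) s.2 h,
      fun h => d.π_eq_one_of_mem (x := ⟨s, d.S_le s.2⟩) h⟩
  have := f.ker.card_mul_index
  rw [index_ker, hr, card_Vgrp, hk, Nat.card_congr (subgroupOfEquivOfLe d.A_le).toEquiv, d.card_A] at this
  exact this.symm

theorem Coord.z_central (c : Coord d) {s : G} (hs : s ∈ (d.S : Subgroup G)) :
    s * c.e zv * s⁻¹ = c.e zv := by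
  have := c.conj_e ⟨s, d.S_le hs⟩ zv
  rwa [vset_fix_zv _ ((d.image _).mp ⟨_, hs, rfl⟩)] at this

theorem Coord.orderOf_e (c : Coord d) {w : Vec} (h0 : w ≠ 0) (h1 : w ≠ 1) : orderOf (c.e w) = 2 :=
  orderOf_eq_prime (by rw [pow_two, d.sq (c.mem w)])
    fun h => ((c.eq_one w).mp h).elim h0 h1

namespace Classes

variable (K : Classes d c)
include K

/-- Conjugates of elements of `A` lying in `S` lie in `A`. -/
theorem conj_mem_A {a g : G} (ha : a ∈ d.A) (hg : g * a * g⁻¹ ∈ (d.S : Subgroup G)) :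
    g * a * g⁻¹ ∈ d.A := by
  rcases eq_or_ne a 1 with rfl | ha1
  · simp
  by_contra hA
  have h2 : (g * a * g⁻¹) * (g * a * g⁻¹) = 1 := by
    rw [← pow_two, conj_pow, pow_two, d.sq ha, mul_one, mul_inv_cancel]
  obtain ⟨n, -, hn⟩ := d.outside_conj K.cent_four K.u_mem K.u_sq K.u_not_mem hg h2 hA
  have hu : IsConj a K.u :=
    (isConj_iff.mpr ⟨g, rfl⟩ : IsConj a _).trans (isConj_iff.mpr ⟨n, hn⟩).symm
  obtain ⟨m, -, hm | hm⟩ := c.cover ha ha1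
  · exact K.nzu ((isConj_iff.mpr ⟨m, hm⟩).trans hu)
  · exact K.nbu ((isConj_iff.mpr ⟨m, hm⟩).trans hu)

theorem exists_conj_S {T : Subgroup G} (hT : IsPGroup 2 T) :
    ∃ g : G, ∀ x ∈ T, g * x * g⁻¹ ∈ (d.S : Subgroup G) := by
  haveI := Fact.mk Nat.prime_two
  obtain ⟨R, hR⟩ := hT.exists_le_sylow
  obtain ⟨g, hg⟩ := MulAction.exists_smul_eq G R d.S
  refine ⟨g, fun x hx => ?_⟩
  rw [← hg]
  exact ⟨x, hR hx, rfl⟩

/-- A `2`-subgroup containing `A` lies in `N`, and contains no further conjugates of elements of `A`. -/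
theorem over_A {T : Subgroup G} (hT : IsPGroup 2 T) (hAT : d.A ≤ T) :
    T ≤ d.N ∧ ∀ a ∈ d.A, ∀ g : G, g * a * g⁻¹ ∈ T → g * a * g⁻¹ ∈ d.A := by
  obtain ⟨h, hh⟩ := K.exists_conj_S hT
  have hhA : ∀ a ∈ d.A, h * a * h⁻¹ ∈ d.A := fun a ha => K.conj_mem_A ha (hh a (hAT ha))
  have hhn : h ∈ normalizer (d.A : Set G) := Subgroup.mem_normalizer_fintype fun a ha => hhA a ha
  refine ⟨fun x hx => ?_, fun a ha g hg => ?_⟩
  · have h1 := d.S_le (hh x hx)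
    rw [d.N_eq] at h1 ⊢
    simpa [mul_assoc] using mul_mem (mul_mem (inv_mem hhn) h1) hhn
  · have h1 : (h * g) * a * (h * g)⁻¹ ∈ d.A := by
      refine K.conj_mem_A ha ?_
      simpa [mul_assoc] using hh _ hg
    rw [mem_normalizer_iff.mp hhn]
    simpa [mul_assoc] using h1

/-- The elements of `A` conjugate to `z` are the `e δ_i`. -/
theorem eq_single_of_conj {a : G} (ha : a ∈ d.A) (h : IsConj (c.e zv) a) :
    ∃ i : Fin 5, a = c.e (Pi.single i 1) := by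
  have ha1 : a ≠ 1 := by
    rintro rfl
    obtain ⟨g, hg⟩ := isConj_iff.mp h
    rw [conj_eq_one_iff] at hg
    rcases (c.eq_one zv).mp hg with h0 | h0 <;> revert h0 <;> decide +kernel
  obtain ⟨n, hn, hm | hm⟩ := c.cover ha ha1
  · refine ⟨((d.π ⟨n, hn⟩ : A5) : Equiv.Perm (Fin 5)) 4, ?_⟩
    rw [← hm]
    have := c.conj_e ⟨n, hn⟩ zv
    rwa [zv, single_comp, ← zv] at this
  · exact absurd (h.trans (isConj_iff.mpr ⟨n, hm⟩).symm) K.nzb

/-- In every non-trivial coset of `A` in `S` there is an involution. -/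
theorem exists_involution {v : A5} (hv : v ∈ Vset) (hv1 : v ≠ 1) :
    ∃ i : ↥d.N, (i : G) ∈ (d.S : Subgroup G) ∧ (i : G) * i = 1 ∧ (i : G) ∉ d.A ∧ d.π i = v := by
  obtain ⟨k, w, hw, hk, hkS⟩ := d.exists_normalizing
  set t : ↥d.N := ⟨K.u, d.S_le K.u_mem⟩ with htdef
  have h1 : d.π t ≠ 1 := fun h => K.u_not_mem (d.mem_A_of_π (s := t) K.u_mem h)
  obtain ⟨j, hj⟩ := vset_cycle w hw _ ((d.image _).mp ⟨t, K.u_mem, rfl⟩) h1 _ hv hv1
  set x : ↥d.N := k ^ (j : ℕ)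
  have hxS : (x : G) ∈ normalizer ((d.S : Subgroup G) : Set G) := by
    rw [Subgroup.coe_pow]; exact pow_mem hkS _
  have hπ : d.π (x * t * x⁻¹) = v := by
    rw [map_mul, map_mul, map_inv, map_pow, hk]; exact hj
  refine ⟨x * t * x⁻¹, (mem_normalizer_iff.mp hxS K.u).mp K.u_mem, ?_, fun h => ?_, hπ⟩
  · rw [Subgroup.coe_mul, Subgroup.coe_mul, Subgroup.coe_inv, ← pow_two, conj_pow, pow_two, htdef]
    rw [K.u_sq, mul_one, mul_inv_cancel]
  · exact hv1 (hπ ▸ d.π_eq_one_of_mem h)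

/-- The part `P₈` of `A`. -/
def P8 (_K : Classes d c) : Subgroup G where
  carrier := {a | ∃ w, par w = 0 ∧ c.e w = a}
  mul_mem' := by
    rintro _ _ ⟨v, hv, rfl⟩ ⟨w, hw, rfl⟩
    exact ⟨v + w, by rw [par_add, hv, hw, add_zero], c.add v w⟩
  one_mem' := ⟨0, by decide, c.e_zero⟩
  inv_mem' := by
    rintro _ ⟨v, hv, rfl⟩
    exact ⟨v, hv, (inv_eq_of_mul_eq_one_right (d.sq (c.mem v))).symm⟩

theorem P8_le : K.P8 ≤ d.A := by
  rintro _ ⟨w, -, rfl⟩; exact c.mem w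

theorem par_of_mem {w : Vec} (h : c.e w ∈ K.P8) : par w = 0 := by
  obtain ⟨v, hv, he⟩ := h
  rcases c.e_eq_iff.mp he with h | h
  · rwa [← vec_eq v w h]
  · exact (by decide +kernel : ∀ v w : Vec, par v = 0 → v + w = 1 → par w = 0) v w hv h

theorem mul_conj_of_involution {i : ↥d.N} (hi : (i : G) ∈ (d.S : Subgroup G)) (hi2 : (i : G) * i = 1)
    (w : Vec) :
    ((i : G) * c.e w) * ((i : G) * c.e w) =
      c.e (w ∘ ⇑((d.π i : Equiv.Perm (Fin 5))⁻¹) + w) := by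
  rw [c.add, ← c.conj_e, inv_eq_of_mul_eq_one_right hi2]
  group

/-- A product of two involutions of the same coset lies in the centraliser. -/
theorem coset_prod {i j : G} (hi : i * i = 1) (hj : j * j = 1) (hA : i * j ∈ d.A) :
    Commute i (i * j) ∧ Commute j (i * j) := by
  have h1 : i * j = j * i := by
    have h2 := inv_eq_of_mul_eq_one_right (d.sq hA)
    rwa [mul_inv_rev, inv_eq_of_mul_eq_one_right hi, inv_eq_of_mul_eq_one_right hj, eq_comm] at h2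
  refine ⟨?_, ?_⟩
  · show i * (i * j) = i * j * i
    rw [mul_assoc i j i, ← h1]
  · show j * (i * j) = i * j * j
    rw [← mul_assoc, ← h1]

theorem par_of_commute {i : ↥d.N} (hi : (i : G) ∈ (d.S : Subgroup G)) (hiA : (i : G) ∉ d.A) {w : Vec}
    (h : Commute (i : G) (c.e w)) : par w = 0 ∧
      (w ∘ ⇑((d.π i : Equiv.Perm (Fin 5))⁻¹) + w = 0 ∨
        w ∘ ⇑((d.π i : Equiv.Perm (Fin 5))⁻¹) + w = 1) := by
  have h' : (w ∘ ⇑((d.π i : Equiv.Perm (Fin 5))⁻¹) + w = 0 ∨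
        w ∘ ⇑((d.π i : Equiv.Perm (Fin 5))⁻¹) + w = 1) := by
    rw [← c.e_eq_iff, ← c.conj_e, mul_inv_eq_iff_eq_mul]
    exact h.eq
  exact ⟨(par_facts _ ((d.image _).mp ⟨i, hi, rfl⟩) w).2.1 h' fun e => hiA (d.mem_A_of_π hi e), h'⟩

theorem pair_prod {i j : ↥d.N} (hi : (i : G) ∈ (d.S : Subgroup G)) (hi2 : (i : G) * i = 1)
    (hiA : (i : G) ∉ d.A) (hj : (j : G) ∈ (d.S : Subgroup G)) (hj2 : (j : G) * j = 1)
    (hjA : (j : G) ∉ d.A) (hne : d.π i ≠ d.π j) :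
    ((i : G) * j) * ((i : G) * j) ∈ zpowers (c.e zv) := by
  have hVi := (d.image _).mp ⟨i, hi, rfl⟩
  have hVj := (d.image _).mp ⟨j, hj, rfl⟩
  have hi1 : d.π i ≠ 1 := fun e => hiA (d.mem_A_of_π hi e)
  have hj1 : d.π j ≠ 1 := fun e => hjA (d.mem_A_of_π hj e)
  set x : G := (j : G) * i * j with hx
  have hx2 : x * x = 1 := by
    calc x * x = (j : G) * ((i : G) * ((j : G) * j) * i) * j := by rw [hx]; group
      _ = 1 := by rw [hj2, mul_one, hi2, mul_one, hj2]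
  have hy2 : ((i : G) * j * i) * ((i : G) * j * i) = 1 := by
    calc ((i : G) * j * i) * ((i : G) * j * i) = (i : G) * ((j : G) * ((i : G) * i) * j) * i := by group
      _ = 1 := by rw [hi2, mul_one, hj2, mul_one, hi2]
  have hA1 : (i : G) * x ∈ d.A := by
    refine d.mem_A_of_π (s := i * (j * i * j)) (mul_mem hi (mul_mem (mul_mem hj hi) hj)) ?_
    rw [map_mul, map_mul, map_mul, (vset_mul _ hVj _ hVi).2.2.2.1, (vset_mul _ hVi _ hVi).2.2.1]
  have hA2 : ((i : G) * j * i) * j ∈ d.A := by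
    have : ((i : G) * j * i) * j = (i : G) * x := by rw [hx]; group
    rwa [this]
  obtain ⟨w, hw⟩ := c.surj _ hA1
  have hc1 := (K.coset_prod hi2 hx2 hA1).1
  have hc2 := (K.coset_prod hy2 hj2 hA2).2
  rw [show ((i : G) * j * i) * j = (i : G) * x by rw [hx]; group] at hc2
  rw [← hw] at hc1 hc2
  have := c.mem_z_powers (two_fixed _ hVi _ hVj hi1 hj1 hne w (K.par_of_commute hi hiA hc1).2
    (K.par_of_commute hj hjA hc2).2)
  rw [hw, hx] at this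
  simpa [mul_assoc] using this

/-- Splitting an element of `S`. -/
theorem exists_split {s : G} (hs : s ∈ (d.S : Subgroup G)) :
    ∃ i : ↥d.N, ((i : G) = 1 ∨ ((i : G) ∈ (d.S : Subgroup G) ∧ (i : G) * i = 1 ∧ (i : G) ∉ d.A)) ∧
      ∃ w, (i : G) * c.e w = s := by
  by_cases h : d.π ⟨s, d.S_le hs⟩ = 1
  · obtain ⟨w, hw⟩ := c.surj s (d.mem_A_of_π (s := ⟨s, d.S_le hs⟩) hs h)
    exact ⟨1, Or.inl rfl, w, by simp [hw]⟩
  · obtain ⟨i, hi, hi2, hiA, hπ⟩ := K.exists_involution ((d.image _).mp ⟨_, hs, rfl⟩) h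
    have hA : (i : G)⁻¹ * s ∈ d.A := d.mem_A_of_π (s := i⁻¹ * ⟨s, d.S_le hs⟩) (mul_mem (inv_mem hi) hs)
      (by rw [map_mul, map_inv, hπ, inv_mul_cancel])
    obtain ⟨w, hw⟩ := c.surj _ hA
    exact ⟨i, Or.inr ⟨hi, hi2, hiA⟩, w, by rw [hw, mul_inv_cancel_left]⟩

/-- Membership in `T₁`. -/
def T1Set (K : Classes d c) : Set G :=
  {s | s ∈ (d.S : Subgroup G) ∧ (s ∈ d.A → s ∈ K.P8) ∧ (s ∉ d.A → s * s ∈ zpowers (c.e zv))}

theorem mem_T1Set_iff {i : ↥d.N}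
    (hi : (i : G) = 1 ∨ ((i : G) ∈ (d.S : Subgroup G) ∧ (i : G) * i = 1 ∧ (i : G) ∉ d.A)) {w : Vec} :
    (i : G) * c.e w ∈ K.T1Set ↔ par w = 0 := by
  have hwA : c.e w ∈ d.A := c.mem w
  rcases hi with hi | ⟨hi, hi2, hiA⟩
  · rw [hi, one_mul]
    refine ⟨fun h => K.par_of_mem (h.2.1 hwA), fun h => ⟨d.A_le hwA, fun _ => ⟨w, h, rfl⟩,
      fun h' => absurd hwA h'⟩⟩
  · have hsA : (i : G) * c.e w ∉ d.A := fun h => hiA (by
      simpa using mul_mem h (inv_mem hwA))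
    have hV := par_facts _ ((d.image _).mp ⟨i, hi, rfl⟩) w
    have hi1 : d.π i ≠ 1 := fun e => hiA (d.mem_A_of_π hi e)
    constructor
    · intro h
      have := h.2.2 hsA
      rw [K.mul_conj_of_involution hi hi2] at this
      exact hV.2.2.2 hi1 (c.mem_set_of_z_powers this)
    · intro h
      refine ⟨mul_mem hi (d.A_le hwA), fun h' => absurd h' hsA, fun _ => ?_⟩
      rw [K.mul_conj_of_involution hi hi2]
      exact c.mem_z_powers (hV.2.2.1 h)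

theorem conj_split {i : ↥d.N} (hi : (i : G) * i = 1) (w : Vec) :
    (i : G) * c.e w * i = c.e (w ∘ ⇑((d.π i : Equiv.Perm (Fin 5))⁻¹)) := by
  rw [← c.conj_e, inv_eq_of_mul_eq_one_right hi]

theorem one_split : ((1 : ↥d.N) : G) = 1 ∨
    (((1 : ↥d.N) : G) ∈ (d.S : Subgroup G) ∧ ((1 : ↥d.N) : G) * (1 : ↥d.N) = 1 ∧ ((1 : ↥d.N) : G) ∉ d.A) :=
  Or.inl rfl

theorem T1_mul {x y : G} (hx : x ∈ K.T1Set) (hy : y ∈ K.T1Set) : x * y ∈ K.T1Set := by
  obtain ⟨i, hi, v, rfl⟩ := K.exists_split hx.1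
  obtain ⟨j, hj, w, rfl⟩ := K.exists_split hy.1
  have hv := (K.mem_T1Set_iff hi).mp hx
  have hw := (K.mem_T1Set_iff hj).mp hy
  have hjS : (j : G) ∈ (d.S : Subgroup G) := by
    rcases hj with h | h
    · rw [h]; exact one_mem _
    · exact h.1
  have hiS : (i : G) ∈ (d.S : Subgroup G) := by
    rcases hi with h | h
    · rw [h]; exact one_mem _
    · exact h.1
  have hj2 : (j : G) * j = 1 := by rcases hj with h | h; exacts [by rw [h, mul_one], h.2.1]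
  have hi2 : (i : G) * i = 1 := by rcases hi with h | h; exacts [by rw [h, mul_one], h.2.1]
  set v' := v ∘ ⇑((d.π j : Equiv.Perm (Fin 5))⁻¹) with hv'
  have hv'0 : par v' = 0 := by
    rw [hv', (par_facts _ ((d.image _).mp ⟨j, hjS, rfl⟩) v).1, hv]
  have e : (i : G) * c.e v * ((j : G) * c.e w) = (i : G) * j * c.e (v' + w) := by
    rw [c.add, hv', ← K.conj_split hj2]
    calc (i : G) * c.e v * ((j : G) * c.e w) = (i : G) * ((j : G) * j) * c.e v * ((j : G) * c.e w) := by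
          rw [hj2, mul_one]
      _ = _ := by group
  rw [e]
  -- split `i j`
  suffices h : ∃ k : ↥d.N, ((k : G) = 1 ∨ ((k : G) ∈ (d.S : Subgroup G) ∧ (k : G) * k = 1 ∧
      (k : G) ∉ d.A)) ∧ ∃ u, par u = 0 ∧ (k : G) * c.e u = (i : G) * j by
    obtain ⟨k, hk, u, hu, hku⟩ := h
    rw [← hku, mul_assoc, ← c.add]
    refine (K.mem_T1Set_iff hk).mpr ?_
    rw [par_add, par_add, hu, hv'0, hw, add_zero, add_zero]
  have hzero : par 0 = 0 := by decide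
  rcases hi with hi | ⟨hi, _, hiA⟩
  · exact ⟨j, hj, 0, hzero, by rw [hi, one_mul, c.e_zero, mul_one]⟩
  rcases hj with hj | ⟨hj, _, hjA⟩
  · exact ⟨i, Or.inr ⟨hiS, hi2, hiA⟩, 0, hzero, by rw [hj, mul_one, c.e_zero, mul_one]⟩
  by_cases hne : d.π i = d.π j
  · have hA : (i : G) * j ∈ d.A := d.mem_A_of_π (s := i * j) (mul_mem hiS hjS)
      (by rw [map_mul, hne]; exact (vset_mul _ ((d.image _).mp ⟨j, hjS, rfl⟩) _
        ((d.image _).mp ⟨j, hjS, rfl⟩)).2.2.1)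
    obtain ⟨u, hu⟩ := c.surj _ hA
    have hc := (K.coset_prod hi2 hj2 hA).1
    rw [← hu] at hc
    exact ⟨1, K.one_split, u, (K.par_of_commute hiS hiA hc).1, by simp [hu]⟩
  · obtain ⟨k, hk, u, hu⟩ := K.exists_split (mul_mem hiS hjS)
    refine ⟨k, hk, u, (K.mem_T1Set_iff hk).mp (hu ▸ ⟨mul_mem hiS hjS, fun h => ?_, fun _ => ?_⟩), hu⟩
    · refine absurd ((vset_mul _ ((d.image _).mp ⟨i, hiS, rfl⟩) _
        ((d.image _).mp ⟨j, hjS, rfl⟩)).2.2.2.2 ?_) hne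
      rw [← map_mul]
      exact d.π_eq_one_of_mem h
    · exact K.pair_prod hiS hi2 hiA hjS hj2 hjA hne

/-- The subgroup `T₁`. -/
def T1 (K : Classes d c) : Subgroup G where
  carrier := K.T1Set
  mul_mem' := K.T1_mul
  one_mem' := ⟨one_mem _, fun _ => one_mem _, fun h => absurd (one_mem _) h⟩
  inv_mem' := by
    intro x hx
    refine ⟨inv_mem hx.1, fun h => inv_mem (hx.2.1 (by simpa using inv_mem h)), fun h => ?_⟩
    have := inv_mem (hx.2.2 fun h' => h (inv_mem h'))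
    rwa [mul_inv_rev] at this

theorem mem_T1_iff {i : ↥d.N}
    (hi : (i : G) = 1 ∨ ((i : G) ∈ (d.S : Subgroup G) ∧ (i : G) * i = 1 ∧ (i : G) ∉ d.A)) {w : Vec} :
    (i : G) * c.e w ∈ K.T1 ↔ par w = 0 := K.mem_T1Set_iff hi

theorem T1_le : K.T1 ≤ (d.S : Subgroup G) := fun _ h => h.1

theorem T1_inf_A {x : G} (hx : x ∈ K.T1) (hA : x ∈ d.A) : x ∈ K.P8 := hx.2.1 hA

theorem P8_le_T1 : K.P8 ≤ K.T1 := fun x hx =>
  ⟨d.A_le (K.P8_le hx), fun _ => hx, fun h => absurd (K.P8_le hx) h⟩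

theorem sq_mem {x : G} (hx : x ∈ K.T1) : x * x ∈ zpowers (c.e zv) := by
  by_cases h : x ∈ d.A
  · rw [d.sq h]; exact one_mem _
  · exact hx.2.2 h

end Classes

end Cfsg.Agent.H80.A8Type
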